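import Groth.Agent.PullbackMod.SkyStalk
import Groth.Agent.FlatLocus.ModInjFlat

/-!
# Maps of modules and their inverse images, through stalks
-/

set_option autoImplicit false
set_option backward.isDefEq.respectTransparency false
set_option backward.defeqAttrib.useBackward true
set_option linter.style.haveILetI false

universe u

open CategoryTheory CategoryTheory.Limits AlgebraicGeometry TopologicalSpace Opposite
open scoped TensorProduct

namespace Groth.Agent.PullbackMod

variable {X X' : Scheme.{u}} {M N : X.Modules}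

/-- A map of modules on a stalk. -/
noncomputable def stalkLin (φ : M ⟶ N) (x : X) :
    M.presheaf.stalk x →ₗ[X.presheaf.stalk x] N.presheaf.stalk x where
  toFun := FlatLocus.stalkHom φ x
  map_add' := map_add _
  map_smul' a z := by
    obtain ⟨V, hxV, a, rfl⟩ := TopCat.Presheaf.exists_germ_eq X.presheaf a
    exact FlatLocus.stalk_map_sc φ x hxV a z

lemma stalkLin_germ (φ : M ⟶ N) {U : X.Opens} (x : X) (hx : x ∈ U) (m : Γ(M, U)) :
    stalkLin φ x (M.presheaf.germ U x hx m) = N.presheaf.germ U x hx (φ.app U m) :=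
  TopCat.Presheaf.stalkFunctor_map_germ_apply U x hx φ.mapPresheaf m

lemma stalkLin_comp {K : X.Modules} (φ : M ⟶ N) (ψ : N ⟶ K) (x : X) :
    stalkLin (φ ≫ ψ) x = (stalkLin ψ x).comp (stalkLin φ x) := by
  refine LinearMap.ext fun z => ?_
  obtain ⟨U, hx, m, rfl⟩ := TopCat.Presheaf.exists_germ_eq M.presheaf z
  rw [LinearMap.comp_apply, stalkLin_germ, stalkLin_germ, stalkLin_germ]
  rfl

lemma stalkLin_id (x : X) : stalkLin (𝟙 M) x = LinearMap.id := by
  refine LinearMap.ext fun z => ?_
  obtain ⟨U, hx, m, rfl⟩ := TopCat.Presheaf.exists_germ_eq M.presheaf z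
  rw [stalkLin_germ]
  rfl

theorem hom_ext_stalk {φ ψ : M ⟶ N} (h : ∀ x, stalkLin φ x = stalkLin ψ x) : φ = ψ := by
  refine Scheme.Modules.hom_ext _ _ fun U => ?_
  refine AddCommGrpCat.hom_ext (AddMonoidHom.ext fun m => ?_)
  refine TopCat.Presheaf.section_ext (⟨N.presheaf, N.isSheaf⟩ : TopCat.Sheaf Ab X) U _ _
    fun x hx => ?_
  show N.presheaf.germ U x hx (φ.app U m) = N.presheaf.germ U x hx (ψ.app U m)
  rw [← stalkLin_germ, ← stalkLin_germ, h]

theorem eq_zero_iff_stalk (φ : M ⟶ N) : φ = 0 ↔ ∀ x, stalkLin φ x = 0 := by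
  have h0 : ∀ x, stalkLin (0 : M ⟶ N) x = 0 := fun x => LinearMap.ext fun z => by
    obtain ⟨U, hx, m, rfl⟩ := TopCat.Presheaf.exists_germ_eq M.presheaf z
    rw [stalkLin_germ, Scheme.Modules.Hom.zero_app, LinearMap.zero_apply]
    exact map_zero _
  exact ⟨fun h x => by rw [h, h0], fun h => hom_ext_stalk fun x => by rw [h, h0]⟩

theorem mono_iff_stalk (φ : M ⟶ N) : Mono φ ↔ ∀ x, Function.Injective (stalkLin φ x) := by
  have h1 : Mono φ ↔ Mono φ.mapPresheaf :=
    ⟨fun _ => inferInstanceAs (Mono ((Scheme.Modules.toPresheaf X).map φ)),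
      fun h => (Scheme.Modules.toPresheaf X).mono_of_mono_map h⟩
  rw [h1, NatTrans.mono_iff_mono_app]
  have h2 : (∀ U, Mono (φ.mapPresheaf.app U)) ↔
      ∀ U : X.Opens, Function.Injective (φ.mapPresheaf.app (op U)) :=
    ⟨fun h U => (AddCommGrpCat.mono_iff_injective _).mp (h (op U)),
      fun h U => (AddCommGrpCat.mono_iff_injective _).mpr (h U.unop)⟩
  rw [h2]
  exact (TopCat.Presheaf.app_injective_iff_stalkFunctor_map_injective
    (F := (⟨M.presheaf, M.isSheaf⟩ : TopCat.Sheaf Ab X)) φ.mapPresheaf).symm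

theorem epi_iff_stalk (φ : M ⟶ N) : Epi φ ↔ ∀ x, Function.Surjective (stalkLin φ x) := by
  refine ⟨fun hφ x => ?_, fun h => ⟨fun a b hab => hom_ext_stalk fun x => ?_⟩⟩
  · rw [← LinearMap.range_eq_top]
    let l := Submodule.mkQ (LinearMap.range (stalkLin φ x))
    have h0 : φ ≫ toSky l = 0 := by
      refine Scheme.Modules.hom_ext _ _ fun U => ?_
      refine AddCommGrpCat.hom_ext (AddMonoidHom.ext fun m => ?_)
      funext hx
      show l (N.presheaf.germ U x hx.down (φ.app U m)) = 0
      rw [← stalkLin_germ]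
      exact (Submodule.Quotient.mk_eq_zero _).mpr ⟨_, rfl⟩
    have h1 : toSky l = 0 := (cancel_epi φ).mp (h0.trans comp_zero.symm)
    refine eq_top_iff.mpr fun z _ => ?_
    obtain ⟨U, hx, m, rfl⟩ := TopCat.Presheaf.exists_germ_eq N.presheaf z
    rw [← Submodule.Quotient.mk_eq_zero]
    show l (N.presheaf.germ U x hx m) = 0
    rw [← toSky_app l U m ⟨hx⟩, h1]
    rfl
  · refine LinearMap.ext fun z => ?_
    obtain ⟨w, rfl⟩ := h x z
    rw [← LinearMap.comp_apply, ← LinearMap.comp_apply, ← stalkLin_comp, ← stalkLin_comp, hab]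

theorem isIso_iff_stalk (φ : M ⟶ N) : IsIso φ ↔ ∀ x, Function.Bijective (stalkLin φ x) := by
  rw [isIso_iff_mono_and_epi, mono_iff_stalk, epi_iff_stalk]
  exact ⟨fun h x => ⟨h.1 x, h.2 x⟩, fun h => ⟨fun x => (h x).1, fun x => (h x).2⟩⟩

variable (g : X' ⟶ X)

theorem pullStalk_natural (φ : M ⟶ N) (x' : X') (z : M.presheaf.stalk (g x')) :
    stalkLin ((Scheme.Modules.pullback g).map φ) x' (pullStalk g M x' z) =
      pullStalk g N x' (stalkLin φ (g x') z) := by
  obtain ⟨U, hx, m, rfl⟩ := TopCat.Presheaf.exists_germ_eq M.presheaf z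
  erw [stalkLin_germ, pullStalk_germ, pullStalk_germ, stalkLin_germ]
  exact congrArg (((Scheme.Modules.pullback g).obj N).presheaf.germ (g ⁻¹ᵁ U) x' hx)
    (ConcreteCategory.congr_hom (congrArg (fun ψ : M ⟶ _ => ψ.app U)
      ((Scheme.Modules.pullbackPushforwardAdjunction g).unit.naturality φ)) m).symm

theorem pullMap_natural (φ : M ⟶ N) {W : X.Opens} {W' : X'.Opens} (e : W' ≤ g ⁻¹ᵁ W)
    (m : Γ(M, W)) :
    ((Scheme.Modules.pullback g).map φ).app W' (pullMap g M e m) =
      pullMap g N e (φ.app W m) := by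
  refine (ConcreteCategory.congr_hom (((Scheme.Modules.pullback g).map φ).mapPresheaf.naturality
    (homOfLE e).op) _).trans ?_
  exact congrArg (((Scheme.Modules.pullback g).obj N).presheaf.map (homOfLE e).op)
    (ConcreteCategory.congr_hom (congrArg (fun ψ : M ⟶ _ => ψ.app W)
      ((Scheme.Modules.pullbackPushforwardAdjunction g).unit.naturality φ)) m).symm

theorem exists_stalk_square (φ : M ⟶ N) (x' : X') :
    letI := (g.stalkMap x').hom.toAlgebra
    ∃ (a : X'.presheaf.stalk x' ⊗[X.presheaf.stalk (g x')] M.presheaf.stalk (g x')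
        ≃ₗ[X'.presheaf.stalk x'] ((Scheme.Modules.pullback g).obj M).presheaf.stalk x')
      (b : X'.presheaf.stalk x' ⊗[X.presheaf.stalk (g x')] N.presheaf.stalk (g x')
        ≃ₗ[X'.presheaf.stalk x'] ((Scheme.Modules.pullback g).obj N).presheaf.stalk x'),
      ∀ z, stalkLin ((Scheme.Modules.pullback g).map φ) x' (a z) =
        b ((stalkLin φ (g x')).lTensor (X'.presheaf.stalk x') z) := by
  letI := (g.stalkMap x').hom.toAlgebra
  letI := Module.compHom (((Scheme.Modules.pullback g).obj M).presheaf.stalk x')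
    (g.stalkMap x').hom
  letI := Module.compHom (((Scheme.Modules.pullback g).obj N).presheaf.stalk x')
    (g.stalkMap x').hom
  haveI : IsScalarTower (X.presheaf.stalk (g x')) (X'.presheaf.stalk x')
      (((Scheme.Modules.pullback g).obj M).presheaf.stalk x') :=
    .of_algebraMap_smul fun _ _ => rfl
  haveI : IsScalarTower (X.presheaf.stalk (g x')) (X'.presheaf.stalk x')
      (((Scheme.Modules.pullback g).obj N).presheaf.stalk x') :=
    .of_algebraMap_smul fun _ _ => rfl
  refine ⟨(isBaseChange_pullStalkL' g M x').equiv, (isBaseChange_pullStalkL' g N x').equiv,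
    fun z => ?_⟩
  induction z with
  | zero => simp
  | add p q hp hq => simp only [map_add, hp, hq]
  | tmul b m =>
    rw [LinearMap.lTensor_tmul, IsBaseChange.equiv_tmul, IsBaseChange.equiv_tmul, map_smul]
    exact congrArg (b • ·) (pullStalk_natural g φ x' m)

theorem injective_stalk_pullback_iff (φ : M ⟶ N) (x' : X') :
    letI := (g.stalkMap x').hom.toAlgebra
    Function.Injective (stalkLin ((Scheme.Modules.pullback g).map φ) x') ↔
      Function.Injective ((stalkLin φ (g x')).lTensor (X'.presheaf.stalk x')) := by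
  letI := (g.stalkMap x').hom.toAlgebra
  obtain ⟨a, b, h⟩ := exists_stalk_square g φ x'
  refine ⟨fun hi z w hzw => a.injective (hi (by rw [h, h, hzw])), fun hi z w hzw => ?_⟩
  obtain ⟨z, rfl⟩ := a.surjective z
  obtain ⟨w, rfl⟩ := a.surjective w
  rw [h, h] at hzw
  exact congrArg a (hi (b.injective hzw))

theorem surjective_stalk_pullback_iff (φ : M ⟶ N) (x' : X') :
    letI := (g.stalkMap x').hom.toAlgebra
    Function.Surjective (stalkLin ((Scheme.Modules.pullback g).map φ) x') ↔
      Function.Surjective ((stalkLin φ (g x')).lTensor (X'.presheaf.stalk x')) := by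
  letI := (g.stalkMap x').hom.toAlgebra
  obtain ⟨a, b, h⟩ := exists_stalk_square g φ x'
  refine ⟨fun hs w => ?_, fun hs w => ?_⟩
  · obtain ⟨z, hz⟩ := hs (b w)
    obtain ⟨z, rfl⟩ := a.surjective z
    exact ⟨z, b.injective ((h z).symm.trans hz)⟩
  · obtain ⟨z, hz⟩ := hs (b.symm w)
    exact ⟨a z, by rw [h, hz, LinearEquiv.apply_symm_apply]⟩

theorem stalk_pullback_eq_zero_iff (φ : M ⟶ N) (x' : X') :
    letI := (g.stalkMap x').hom.toAlgebra
    stalkLin ((Scheme.Modules.pullback g).map φ) x' = 0 ↔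
      (stalkLin φ (g x')).lTensor (X'.presheaf.stalk x') = 0 := by
  letI := (g.stalkMap x').hom.toAlgebra
  obtain ⟨a, b, h⟩ := exists_stalk_square g φ x'
  refine ⟨fun h0 => LinearMap.ext fun z => b.injective ?_, fun h0 => LinearMap.ext fun z => ?_⟩
  · rw [← h, h0]
    exact (map_zero b).symm
  · obtain ⟨z, rfl⟩ := a.surjective z
    rw [h, h0]
    exact map_zero b

section flat

variable [Flat g]

theorem faithfullyFlat_stalk (x' : X') :
    letI := (g.stalkMap x').hom.toAlgebra
    Module.FaithfullyFlat (X.presheaf.stalk (g x')) (X'.presheaf.stalk x') := by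
  letI := (g.stalkMap x').hom.toAlgebra
  haveI : Module.Flat (X.presheaf.stalk (g x')) (X'.presheaf.stalk x') := Flat.stalkMap g x'
  haveI : IsLocalHom (algebraMap (X.presheaf.stalk (g x')) (X'.presheaf.stalk x')) :=
    g.toLRSHom.prop x'
  exact Module.FaithfullyFlat.of_flat_of_isLocalHom

theorem mono_map_pullback (φ : M ⟶ N) [Mono φ] : Mono ((Scheme.Modules.pullback g).map φ) := by
  refine (mono_iff_stalk _).mpr fun x' => (injective_stalk_pullback_iff g φ x').mpr ?_
  letI := (g.stalkMap x').hom.toAlgebra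
  haveI := faithfullyFlat_stalk g x'
  exact (Module.FaithfullyFlat.lTensor_injective_iff_injective _ _ _).mpr
    ((mono_iff_stalk φ).mp ‹_› _)

variable [Surjective g]

theorem faithful_pullback : (Scheme.Modules.pullback g).Faithful := by
  refine ⟨fun {M N} φ ψ h => sub_eq_zero.mp ((eq_zero_iff_stalk _).mpr fun x => ?_)⟩
  obtain ⟨x', rfl⟩ := g.surjective x
  letI := (g.stalkMap x').hom.toAlgebra
  haveI := faithfullyFlat_stalk g x'
  have h0 : stalkLin ((Scheme.Modules.pullback g).map (φ - ψ)) x' = 0 :=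
    (eq_zero_iff_stalk _).mp (by rw [Functor.map_sub, h, sub_self]) x'
  exact (Module.FaithfullyFlat.zero_iff_lTensor_zero _ (X'.presheaf.stalk x') _).mpr
    ((stalk_pullback_eq_zero_iff g (φ - ψ) x').mp h0)

theorem mono_map_pullback_iff (φ : M ⟶ N) : Mono ((Scheme.Modules.pullback g).map φ) ↔ Mono φ :=
  haveI := faithful_pullback g
  ⟨fun h => (Scheme.Modules.pullback g).mono_of_mono_map h, fun _ => mono_map_pullback g φ⟩

theorem epi_map_pullback_iff (φ : M ⟶ N) : Epi ((Scheme.Modules.pullback g).map φ) ↔ Epi φ :=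
  haveI := faithful_pullback g
  ⟨fun h => (Scheme.Modules.pullback g).epi_of_epi_map h, fun _ => inferInstance⟩

end flat

end Groth.Agent.PullbackMod
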