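import Groth.Agent.PullbackMod.Props
import Groth.Agent.FlatLocus.FibreCritMod

/-!
# Finite locally free modules: criterion and inverse images
-/

set_option autoImplicit false
set_option backward.isDefEq.respectTransparency false
set_option backward.defeqAttrib.useBackward true
set_option linter.style.haveILetI false

universe u

open CategoryTheory CategoryTheory.Limits AlgebraicGeometry TopologicalSpace Opposite
open Groth.Agent.CohBase Groth.Agent.QCohLib

namespace Groth.Agent.PullbackMod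

variable {X X' : Scheme.{u}}

theorem exists_tilde_iso (M : X.Modules) (hM : FlatMod.IsFinLocFree M) (x : X) :
    ∃ (D : X.Opens) (hD : IsAffineOpen D) (n : ℕ), x ∈ D ∧
      Nonempty (M.restrict hD.fromSpec ≅
        tilde (ModuleCat.of Γ(X, D) (ULift.{u} (Fin n) →₀ Γ(X, D)))) := by
  obtain ⟨U, n, hxU, ⟨e⟩⟩ := hM x
  obtain ⟨_, ⟨D : X.Opens, (hD : IsAffineOpen D), rfl⟩, hxD, hDU⟩ :=
    X.isBasis_affineOpens.exists_subset_of_mem_open (a := x) (u := ↑U) hxU U.2
  refine ⟨D, hD, n, hxD, ⟨?_⟩⟩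
  let v : Spec Γ(X, D) ⟶ (U : Scheme.{u}) := hD.isoSpec.inv ≫ X.homOfLE hDU
  let F := Scheme.Modules.restrictFunctor v
  haveI : PreservesColimitsOfSize.{u, u} F :=
    (Scheme.Modules.restrictAdjunction v).leftAdjoint_preservesColimits
  exact ((Scheme.Modules.restrictFunctorComp v U.ι).symm ≪≫
      Scheme.Modules.restrictFunctorCongr (g := hD.fromSpec)
        (show v ≫ U.ι = hD.fromSpec by simp [v, IsAffineOpen.isoSpec_inv_ι])).symm.app M ≪≫
    F.mapIso e ≪≫
    F.mapIso (Sigma.whiskerEquiv (Equiv.ulift.{u, 0} (α := Fin n)) fun _ => Iso.refl _).symm ≪≫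
    PreservesCoproduct.iso F _ ≪≫
    Limits.Sigma.mapIso (fun _ => Scheme.Modules.restrictUnitIso v) ≪≫
    (tildeFinsupp _).symm

/-- A finite locally free module is quasi-coherent and finitely presented. -/
theorem isQCoh_and_isFP_of_isFinLocFree (M : X.Modules) (hM : FlatMod.IsFinLocFree M) :
    Coh.IsQCoh M ∧ CohB1.IsFP M := by
  choose D hD n hx e using exists_tilde_iso M hM
  have hcov : ⨆ x, D x = ⊤ := eq_top_iff.mpr fun x _ => Opens.mem_iSup.mpr ⟨x, hx x⟩
  have hiso : ∀ x, IsIso (M.restrict (hD x).fromSpec).fromTildeΓ := fun x => by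
    obtain ⟨e⟩ := e x
    exact (isQuasicoherent_iff_isIso_fromTildeΓ _).mp
      ((SheafOfModules.isQuasicoherent.{u} (Spec Γ(X, D x)).ringCatSheaf).prop_of_iso e.symm
        (inferInstanceAs (((tilde.functor Γ(X, D x)).obj _).IsQuasicoherent)))
  have hq : Coh.IsQCoh M := isQCoh_of_isIso_fromTildeΓ M D hD hcov hiso
  refine ⟨hq, isFP_of_finitePresentation M D hD hcov fun x => ?_⟩
  obtain ⟨e⟩ := e x
  let eΓ := (moduleSpecΓFunctor (R := Γ(X, D x))).mapIso e ≪≫
    ((tilde.toTildeΓNatIso (R := Γ(X, D x))).app _).symm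
  let e' : Γ(M, D x) ≃ₗ[Γ(X, D x)] (ULift.{u} (Fin (n x)) →₀ Γ(X, D x)) :=
    (topEquiv M (hD x)).symm.trans eΓ.toLinearEquiv
  exact Module.FinitePresentation.of_equiv e'.symm

theorem isFlat_of_isFinLocFree (M : X.Modules) (hM : FlatMod.IsFinLocFree M) (x : X) :
    FlatMod.IsFlatAt M x := by
  obtain ⟨D, hD, n, hxD, ⟨e⟩⟩ := exists_tilde_iso M hM x
  haveI := (isQCoh_and_isFP_of_isFinLocFree M hM).1
  let eΓ := (moduleSpecΓFunctor (R := Γ(X, D))).mapIso e ≪≫
    ((tilde.toTildeΓNatIso (R := Γ(X, D))).app _).symm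
  let e' : Γ(M, D) ≃ₗ[Γ(X, D)] (ULift.{u} (Fin n) →₀ Γ(X, D)) :=
    (topEquiv M hD).symm.trans eΓ.toLinearEquiv
  haveI : Module.Flat Γ(X, D) Γ(M, D) := Module.Flat.of_linearEquiv e'
  letI := Module.compHom (M.presheaf.stalk x) (X.presheaf.germ D x hxD).hom
  obtain ⟨gl, hgl⟩ := GenFree.exists_isLocalizedModule_germ M hD x hxD
  haveI := hgl
  letI : Algebra Γ(X, D) (X.presheaf.stalk x) :=
    TopCat.Presheaf.algebra_section_stalk X.presheaf ⟨x, hxD⟩
  haveI := hD.isLocalization_stalk ⟨x, hxD⟩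
  haveI : IsScalarTower Γ(X, D) (X.presheaf.stalk x) (M.presheaf.stalk x) :=
    .of_algebraMap_smul fun _ _ => rfl
  exact Module.Flat.of_linearEquiv
    (IsLocalizedModule.isBaseChange (hD.primeIdealOf ⟨x, hxD⟩).asIdeal.primeCompl
      (X.presheaf.stalk x) gl).equiv.symm

/-- Finite locally free = finitely presented with flat stalks. -/
theorem isFinLocFree_iff (M : X.Modules) :
    FlatMod.IsFinLocFree M ↔ Coh.IsQCoh M ∧ CohB1.IsFP M ∧ FlatMod.IsFlat M :=
  ⟨fun h => ⟨(isQCoh_and_isFP_of_isFinLocFree M h).1, (isQCoh_and_isFP_of_isFinLocFree M h).2,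
      isFlat_of_isFinLocFree M h⟩,
    fun ⟨h1, h2, h3⟩ x => haveI := h1; FlatLocus.exists_free_nhd M h2 x (h3 x)⟩

theorem isFinLocFree_pullback (g : X' ⟶ X) (M : X.Modules) (hM : FlatMod.IsFinLocFree M) :
    FlatMod.IsFinLocFree ((Scheme.Modules.pullback g).obj M) := by
  obtain ⟨h1, h2, h3⟩ := (isFinLocFree_iff M).mp hM
  exact (isFinLocFree_iff _).mpr ⟨isQCoh_pullback g M, isFP_pullback g M h2,
    fun x => isFlatAt_pullback g M x (h3 _)⟩

end Groth.Agent.PullbackMod
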