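import Groth.Agent.PullbackMod.Stalk
import Groth.Agent.QCohLib.Coherent
import Groth.Agent.FlatLocus.FreeNhd

/-!
# Finiteness and freeness are preserved by inverse images
-/

set_option autoImplicit false
set_option backward.isDefEq.respectTransparency false
set_option backward.defeqAttrib.useBackward true
set_option linter.style.haveILetI false

universe u

open CategoryTheory CategoryTheory.Limits AlgebraicGeometry TopologicalSpace Opposite
open Groth.Agent.CohBase Groth.Agent.QCohLib
open scoped TensorProduct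

namespace Groth.Agent.PullbackMod

variable {X X' : Scheme.{u}}

set_option backward.isDefEq.respectTransparency false in
/-- Finitely presented sections on an affine cover give finite presentation. -/
theorem isFP_of_finitePresentation (M : X.Modules) [Coh.IsQCoh M] {ι : Type u} (W : ι → X.Opens)
    (hW : ∀ a, IsAffineOpen (W a)) (hcov : ⨆ a, W a = ⊤)
    (h : ∀ a, Module.FinitePresentation Γ(X, W a) Γ(M, W a)) : CohB1.IsFP M := by
  have : ∀ a, ∃ P : (SheafOfModules.over (R := X.ringCatSheaf) M (W a)).Presentation,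
      P.IsFinite := by
    intro a
    haveI : IsIso (M.restrict (hW a).fromSpec).fromTildeΓ :=
      (isIso_fromTildeΓ_iff_isLocalizing _).mpr (isLocalizing_restrict M (hW a))
    haveI := h a
    haveI hfp : Module.FinitePresentation Γ(X, W a) Γ(M.restrict (hW a).fromSpec, ⊤) :=
      Module.FinitePresentation.of_equiv (topEquiv M (hW a)).symm
    obtain ⟨s, hs, hker⟩ := hfp.out
    obtain ⟨t, ht⟩ := hker
    let N := M.restrict (hW a).fromSpec
    let P₀ := presentationTilde.{u} ((modulesSpecToSheaf.obj N).presheaf.obj (op ⊤))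
      (s : Set Γ(N, ⊤)) hs (t : Set ((s : Set Γ(N, ⊤)) →₀ Γ(X, W a))) ht
    haveI : P₀.IsFinite := ⟨⟨inferInstanceAs (Finite (s : Set Γ(N, ⊤)))⟩,
      ⟨inferInstanceAs (Finite (t : Set ((s : Set Γ(N, ⊤)) →₀ Γ(X, W a))))⟩⟩
    let P₁ := SheafOfModules.Presentation.ofIsIso.{u, u, u} (asIso N.fromTildeΓ).hom P₀
    let P₂ := SheafOfModules.Presentation.ofIsIso.{u, u, u}
      (((Scheme.Modules.restrictFunctorComp (hW a).isoSpec.hom (hW a).fromSpec).symm ≪≫
        Scheme.Modules.restrictFunctorCongr (hW a).isoSpec_hom_fromSpec).app M).hom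
      (Scheme.Modules.presentationRestrict (hW a).isoSpec.hom P₁)
    exact ⟨presentationOver M (W a) P₂,
      ⟨⟨inferInstanceAs (Finite (s : Set Γ(N, ⊤)))⟩,
        ⟨inferInstanceAs (Finite (t : Set ((s : Set Γ(N, ⊤)) →₀ Γ(X, W a))))⟩⟩⟩
  choose P hP using this
  let q : SheafOfModules.QuasicoherentData.{u} (R := X.ringCatSheaf) M :=
    { I := ι
      X := W
      coversTop := by
        rw [Opens.coversTop_iff, IsOpenCover]
        exact hcov
      presentation := P }
  constructor
  refine ⟨q, ?_⟩
  constructor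
  exact fun a => hP a

variable (g : X' ⟶ X) (M : X.Modules)

/-- Sections of an inverse image as a tensor product. -/
theorem exists_pullback_sections_equiv [Coh.IsQCoh M] {W : X.Opens} {W' : X'.Opens}
    (hW : IsAffineOpen W) (hW' : IsAffineOpen W') (e : W' ≤ g ⁻¹ᵁ W) :
    letI := (g.appLE W W' e).hom.toAlgebra
    ∃ φ : Γ(X', W') ⊗[Γ(X, W)] Γ(M, W) ≃ₗ[Γ(X', W')] Γ((Scheme.Modules.pullback g).obj M, W'),
      ∀ b m, φ (b ⊗ₜ m) = b • pullMap g M e m := by
  letI := (g.appLE W W' e).hom.toAlgebra
  letI := Module.compHom Γ((Scheme.Modules.pullback g).obj M, W') (g.appLE W W' e).hom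
  haveI : IsScalarTower Γ(X, W) Γ(X', W') Γ((Scheme.Modules.pullback g).obj M, W') :=
    .of_algebraMap_smul fun _ _ => rfl
  exact ⟨(isBaseChange_pullMapL g M hW hW' e).equiv, fun b m =>
    IsBaseChange.equiv_tmul (isBaseChange_pullMapL g M hW hW' e) b m⟩

theorem finite_sections_pullback [Coh.IsQCoh M] {W : X.Opens} {W' : X'.Opens}
    (hW : IsAffineOpen W) (hW' : IsAffineOpen W') (e : W' ≤ g ⁻¹ᵁ W)
    [Module.Finite Γ(X, W) Γ(M, W)] :
    Module.Finite Γ(X', W') Γ((Scheme.Modules.pullback g).obj M, W') := by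
  letI := (g.appLE W W' e).hom.toAlgebra
  obtain ⟨φ, -⟩ := exists_pullback_sections_equiv g M hW hW' e
  exact Module.Finite.equiv φ

theorem finitePresentation_sections_pullback [Coh.IsQCoh M] {W : X.Opens} {W' : X'.Opens}
    (hW : IsAffineOpen W) (hW' : IsAffineOpen W') (e : W' ≤ g ⁻¹ᵁ W)
    [Module.FinitePresentation Γ(X, W) Γ(M, W)] :
    Module.FinitePresentation Γ(X', W') Γ((Scheme.Modules.pullback g).obj M, W') := by
  letI := (g.appLE W W' e).hom.toAlgebra
  obtain ⟨φ, -⟩ := exists_pullback_sections_equiv g M hW hW' e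
  exact Module.FinitePresentation.of_equiv φ

theorem exists_affine_cover_of :
    ∃ (W : X' → X.Opens) (W' : X' → X'.Opens), (∀ x, IsAffineOpen (W x)) ∧
      (∀ x, IsAffineOpen (W' x)) ∧ ⨆ x, W' x = ⊤ ∧ ∀ x, W' x ≤ g ⁻¹ᵁ W x := by
  choose W W' hW hW' hx hle using exists_affine_pair g
  exact ⟨W, W', hW, hW', eq_top_iff.mpr fun x _ => Opens.mem_iSup.mpr ⟨x, hx x⟩, hle⟩

/-- The inverse image of a finitely presented module is finitely presented. -/
theorem isFP_pullback [Coh.IsQCoh M] (hM : CohB1.IsFP M) :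
    CohB1.IsFP ((Scheme.Modules.pullback g).obj M) := by
  haveI := isQCoh_pullback g M
  obtain ⟨W, W', hW, hW', hcov, e⟩ := exists_affine_cover_of g
  refine isFP_of_finitePresentation _ W' hW' hcov fun x => ?_
  haveI := finitePresentation_sections M hM (hW x)
  exact finitePresentation_sections_pullback g M (hW x) (hW' x) (e x)

/-- The inverse image of a quasi-coherent module of finite type is of finite type. -/
theorem isFiniteType_pullback [Coh.IsQCoh M]
    (hM : SheafOfModules.IsFiniteType (R := X.ringCatSheaf) M) :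
    SheafOfModules.IsFiniteType (R := X'.ringCatSheaf) ((Scheme.Modules.pullback g).obj M) := by
  haveI := isQCoh_pullback g M
  obtain ⟨W, W', hW, hW', hcov, e⟩ := exists_affine_cover_of g
  refine isFiniteType_of_finite _ W' hW' hcov fun x => ?_
  haveI := finite_sections M hM (hW x)
  exact finite_sections_pullback g M (hW x) (hW' x) (e x)

theorem isCoh_pullback (hM : Coh.IsCoh M) : Coh.IsCoh ((Scheme.Modules.pullback g).obj M) :=
  haveI : Coh.IsQCoh M := hM.1
  ⟨isQCoh_pullback g M, isFiniteType_pullback g M hM.2⟩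

/-- A stalk of an inverse image as a tensor product. -/
theorem exists_pullback_stalk_equiv [Coh.IsQCoh M] (x' : X') :
    letI := (g.stalkMap x').hom.toAlgebra
    ∃ φ : X'.presheaf.stalk x' ⊗[X.presheaf.stalk (g x')] M.presheaf.stalk (g x')
        ≃ₗ[X'.presheaf.stalk x'] ((Scheme.Modules.pullback g).obj M).presheaf.stalk x',
      ∀ b m, φ (b ⊗ₜ m) = b • pullStalk g M x' m := by
  letI := (g.stalkMap x').hom.toAlgebra
  letI := Module.compHom (((Scheme.Modules.pullback g).obj M).presheaf.stalk x')
    (g.stalkMap x').hom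
  haveI : IsScalarTower (X.presheaf.stalk (g x')) (X'.presheaf.stalk x')
      (((Scheme.Modules.pullback g).obj M).presheaf.stalk x') :=
    .of_algebraMap_smul fun _ _ => rfl
  exact ⟨(isBaseChange_pullStalkL g M x').equiv, fun b m =>
    IsBaseChange.equiv_tmul (isBaseChange_pullStalkL g M x') b m⟩

theorem isFlatAt_pullback [Coh.IsQCoh M] (x' : X') (h : FlatMod.IsFlatAt M (g x')) :
    FlatMod.IsFlatAt ((Scheme.Modules.pullback g).obj M) x' := by
  letI := (g.stalkMap x').hom.toAlgebra
  obtain ⟨φ, -⟩ := exists_pullback_stalk_equiv g M x'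
  haveI : Module.Flat (X.presheaf.stalk (g x')) (M.presheaf.stalk (g x')) := h
  exact Module.Flat.of_linearEquiv φ.symm

end Groth.Agent.PullbackMod
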