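import Groth.Agent.PullbackMod.Hom
import Groth.Agent.PullbackMod.Props
import Groth.Agent.FlatLocus.ModInjFlat

/-!
# Openness of the loci where a map of modules is zero, surjective or bijective
-/

set_option autoImplicit false
set_option backward.isDefEq.respectTransparency false
set_option backward.defeqAttrib.useBackward true
set_option linter.style.haveILetI false

universe u

open CategoryTheory CategoryTheory.Limits AlgebraicGeometry TopologicalSpace Opposite

namespace Groth.Agent.PullbackMod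

variable {X : Scheme.{u}} {M N : X.Modules} [Coh.IsQCoh M] [Coh.IsQCoh N] (u : M ⟶ N)

lemma primeCompl_primeIdealOf {W : X.Opens} (hW : IsAffineOpen W) (x : X) (hx : x ∈ W)
    (a : Γ(X, W)) : a ∈ (hW.primeIdealOf ⟨x, hx⟩).asIdeal.primeCompl ↔ x ∈ X.basicOpen a := by
  have h := SetLike.ext_iff.mp (hW.fromSpec_preimage_basicOpen a) (hW.primeIdealOf ⟨x, hx⟩)
  rw [Scheme.Hom.mem_preimage, hW.fromSpec_primeIdealOf] at h
  exact h.symm


omit [Coh.IsQCoh M] [Coh.IsQCoh N] in
/-- The map on stalks, linear over sections. -/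
theorem exists_localizedMap {W : X.Opens} (hW : IsAffineOpen W) (x : X) (hx : x ∈ W) :
    letI := Module.compHom (M.presheaf.stalk x) (X.presheaf.germ W x hx).hom
    letI := Module.compHom (N.presheaf.stalk x) (X.presheaf.germ W x hx).hom
    ∃ ψ : M.presheaf.stalk x →ₗ[Γ(X, W)] N.presheaf.stalk x,
      (⇑ψ = stalkLin u x) ∧ ∀ (_ : IsLocalizedModule (hW.primeIdealOf ⟨x, hx⟩).asIdeal.primeCompl
        (FlatLocus.germL M W x hx)), ∀ m, ψ (FlatLocus.germL M W x hx m) =
          FlatLocus.germL N W x hx (FlatLocus.appL u W m) := by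
  letI := Module.compHom (M.presheaf.stalk x) (X.presheaf.germ W x hx).hom
  letI := Module.compHom (N.presheaf.stalk x) (X.presheaf.germ W x hx).hom
  exact ⟨{ toFun := stalkLin u x
           map_add' := map_add _
           map_smul' := fun a z => (stalkLin u x).map_smul (X.presheaf.germ W x hx a) z }, rfl,
    fun _ m => stalkLin_germ u x hx m⟩

/-- Stalkwise conditions in terms of sections on an affine open. -/
theorem stalk_criteria {W : X.Opens} (hW : IsAffineOpen W) (x : X) (hx : x ∈ W) :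
    (stalkLin u x = 0 ↔
      ∀ m, ∃ s : Γ(X, W), x ∈ X.basicOpen s ∧ s • FlatLocus.appL u W m = 0) ∧
    (Function.Surjective (stalkLin u x) ↔
      ∀ q, ∃ s : Γ(X, W), x ∈ X.basicOpen s ∧ ∃ m, FlatLocus.appL u W m = s • q) ∧
    (Function.Injective (stalkLin u x) ↔
      ∀ m, FlatLocus.appL u W m = 0 → ∃ s : Γ(X, W), x ∈ X.basicOpen s ∧ s • m = 0) := by
  letI := Module.compHom (M.presheaf.stalk x) (X.presheaf.germ W x hx).hom
  letI := Module.compHom (N.presheaf.stalk x) (X.presheaf.germ W x hx).hom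
  let S := (hW.primeIdealOf ⟨x, hx⟩).asIdeal.primeCompl
  let g := FlatLocus.germL M W x hx
  let h := FlatLocus.germL N W x hx
  haveI hg : IsLocalizedModule S g := FlatLocus.isLocalizedModule_germL M hW x hx
  haveI : IsLocalizedModule S h := FlatLocus.isLocalizedModule_germL N hW x hx
  obtain ⟨ψ, hψ, hψg⟩ := exists_localizedMap u hW x hx
  have hm : ∀ s : S, x ∈ X.basicOpen s.1 := fun s => (primeCompl_primeIdealOf hW x hx s.1).mp s.2
  have mk : ∀ a : Γ(X, W), x ∈ X.basicOpen a → a ∈ S := fun a ha =>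
    (primeCompl_primeIdealOf hW x hx a).mpr ha
  have e0 : stalkLin u x = 0 ↔ ψ = 0 := by
    constructor
    · exact fun e => LinearMap.ext fun z => by rw [hψ, e]; rfl
    · exact fun e => LinearMap.ext fun z => by rw [← hψ, e]; rfl
  rw [e0, ← hψ]
  refine ⟨⟨fun e m => ?_, fun e => ?_⟩, ⟨fun e q => ?_, fun e y => ?_⟩,
    ⟨fun e m hm0 => ?_, fun e => ?_⟩⟩
  · obtain ⟨s, hs⟩ := (IsLocalizedModule.eq_zero_iff S h).mp
      (show h (FlatLocus.appL u W m) = 0 by rw [← hψg hg, e]; rfl)
    exact ⟨s.1, hm s, hs⟩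
  · refine IsLocalizedModule.ext S g (IsLocalizedModule.map_units h) ?_
    ext m
    obtain ⟨s, hs, h0⟩ := e m
    show ψ (g m) = 0
    rw [hψg hg, IsLocalizedModule.eq_zero_iff S]
    exact ⟨⟨s, mk s hs⟩, h0⟩
  · obtain ⟨b, hb⟩ := e (h q)
    obtain ⟨⟨m, t⟩, hbt⟩ := IsLocalizedModule.surj S g b
    have h1 : h (t.1 • q) = h (FlatLocus.appL u W m) := by
      have h2 := congrArg ψ hbt
      rw [Submonoid.smul_def, map_smul, hb, hψg hg] at h2
      rw [map_smul]
      exact h2
    obtain ⟨c, hc⟩ := IsLocalizedModule.exists_of_eq (S := S) (f := h) h1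
    refine ⟨(c * t).1, hm _, c.1 • m, ?_⟩
    rw [map_smul, Submonoid.coe_mul, mul_smul]
    exact hc.symm
  · obtain ⟨⟨q, t⟩, hyt⟩ := IsLocalizedModule.surj S h y
    obtain ⟨s, hs, m, hsm⟩ := e q
    let st : S := ⟨s, mk s hs⟩ * t
    refine ⟨IsLocalizedModule.mk' g m st, ?_⟩
    apply ((Module.End.isUnit_iff _).mp (IsLocalizedModule.map_units h st)).1
    show st.1 • ψ (IsLocalizedModule.mk' g m st) = st.1 • y
    rw [← map_smul, ← Submonoid.smul_def, IsLocalizedModule.mk'_cancel', hψg hg, hsm, map_smul]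
    show s • h q = (s * t.1) • y
    rw [mul_smul]
    congr 1
    exact hyt.symm
  · have h0 : g m = 0 := e (show ψ (g m) = ψ 0 by rw [hψg hg, hm0, map_zero, map_zero])
    obtain ⟨s, hs⟩ := (IsLocalizedModule.eq_zero_iff S g).mp h0
    exact ⟨s.1, hm s, hs⟩
  · rw [injective_iff_map_eq_zero]
    intro z hz
    obtain ⟨⟨m, t⟩, hzt⟩ := IsLocalizedModule.surj S g z
    obtain ⟨c, hc⟩ := (IsLocalizedModule.eq_zero_iff S h).mp
      (show h (FlatLocus.appL u W m) = 0 by
        rw [← hψg hg, show g m = t • z from hzt.symm, Submonoid.smul_def, map_smul, hz, smul_zero])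
    obtain ⟨s, hs, hsm⟩ := e (c.1 • m) (by rw [map_smul]; exact hc)
    apply ((Module.End.isUnit_iff _).mp (IsLocalizedModule.map_units g (⟨s, mk s hs⟩ * c * t))).1
    show (s * c.1 * t.1) • z = (s * c.1 * t.1) • 0
    rw [smul_zero, mul_smul, mul_smul, show t.1 • z = g m from hzt, ← map_smul, ← map_smul, hsm,
      map_zero]

theorem finite_stalk_of_isFT (hM : CohB1.IsFT M) (x : X) :
    Module.Finite (X.presheaf.stalk x) (M.presheaf.stalk x) := by
  obtain ⟨_, ⟨W : X.Opens, (hW : IsAffineOpen W), rfl⟩, hx, -⟩ :=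
    X.isBasis_affineOpens.exists_subset_of_mem_open (Set.mem_univ x) isOpen_univ
  haveI := QCohLib.finite_sections M hM hW
  letI := Module.compHom (M.presheaf.stalk x) (X.presheaf.germ W x hx).hom
  haveI := FlatLocus.isLocalizedModule_germL M hW x hx
  letI : Algebra Γ(X, W) (X.presheaf.stalk x) :=
    TopCat.Presheaf.algebra_section_stalk X.presheaf ⟨x, hx⟩
  haveI := hW.isLocalization_stalk ⟨x, hx⟩
  haveI : IsScalarTower Γ(X, W) (X.presheaf.stalk x) (M.presheaf.stalk x) :=
    .of_algebraMap_smul fun _ _ => rfl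
  exact Module.Finite.of_isLocalizedModule (hW.primeIdealOf ⟨x, hx⟩).asIdeal.primeCompl
    (FlatLocus.germL M W x hx)

theorem finitePresentation_stalk_of_isFP (hM : CohB1.IsFP M) (x : X) :
    Module.FinitePresentation (X.presheaf.stalk x) (M.presheaf.stalk x) := by
  obtain ⟨_, ⟨W : X.Opens, (hW : IsAffineOpen W), rfl⟩, hx, -⟩ :=
    X.isBasis_affineOpens.exists_subset_of_mem_open (Set.mem_univ x) isOpen_univ
  haveI := QCohLib.finitePresentation_sections M hM hW
  letI := Module.compHom (M.presheaf.stalk x) (X.presheaf.germ W x hx).hom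
  haveI := FlatLocus.isLocalizedModule_germL M hW x hx
  letI : Algebra Γ(X, W) (X.presheaf.stalk x) :=
    TopCat.Presheaf.algebra_section_stalk X.presheaf ⟨x, hx⟩
  haveI := hW.isLocalization_stalk ⟨x, hx⟩
  haveI : IsScalarTower Γ(X, W) (X.presheaf.stalk x) (M.presheaf.stalk x) :=
    .of_algebraMap_smul fun _ _ => rfl
  exact FinitePresentation.of_isBaseChange (FlatLocus.germL M W x hx)
    ((isLocalizedModule_iff_isBaseChange (hW.primeIdealOf ⟨x, hx⟩).asIdeal.primeCompl _ _).mp
      inferInstance)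

/-- The vanishing locus of a map out of a module of finite type is open. -/
theorem isOpen_stalk_zero (hM : CohB1.IsFT M) : IsOpen {x | stalkLin u x = 0} := by
  classical
  refine isOpen_iff_forall_mem_open.mpr fun x hx => ?_
  obtain ⟨_, ⟨W : X.Opens, (hW : IsAffineOpen W), rfl⟩, hxW, -⟩ :=
    X.isBasis_affineOpens.exists_subset_of_mem_open (Set.mem_univ x) isOpen_univ
  obtain ⟨gen, hgen⟩ := (QCohLib.finite_sections M hM hW).fg_top
  choose s hs h0 using (stalk_criteria u hW x hxW).1.mp hx
  refine ⟨X.basicOpen (∏ m ∈ gen, s m), fun y hy => ?_, (X.basicOpen _).2,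
    (primeCompl_primeIdealOf hW x hxW _).mp (prod_mem fun m _ =>
      (primeCompl_primeIdealOf hW x hxW _).mpr (hs m))⟩
  refine (stalk_criteria u hW y (X.basicOpen_le _ hy)).1.mpr fun m => ⟨_, hy, ?_⟩
  have hm : m ∈ Submodule.span Γ(X, W) (gen : Set Γ(M, W)) := by rw [hgen]; trivial
  induction hm using Submodule.span_induction with
  | mem m hm => rw [← Finset.prod_erase_mul _ _ hm, mul_smul, h0, smul_zero]
  | zero => rw [map_zero, smul_zero]
  | add a b _ _ ha hb => rw [map_add, smul_add, ha, hb, add_zero]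
  | smul r a _ ha => rw [map_smul, smul_comm, ha, smul_zero]

/-- The surjectivity locus of a map onto a module of finite type is open. -/
theorem isOpen_stalk_surjective (hN : CohB1.IsFT N) :
    IsOpen {x | Function.Surjective (stalkLin u x)} := by
  classical
  refine isOpen_iff_forall_mem_open.mpr fun x hx => ?_
  obtain ⟨_, ⟨W : X.Opens, (hW : IsAffineOpen W), rfl⟩, hxW, -⟩ :=
    X.isBasis_affineOpens.exists_subset_of_mem_open (Set.mem_univ x) isOpen_univ
  obtain ⟨gen, hgen⟩ := (QCohLib.finite_sections N hN hW).fg_top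
  choose s hs p hp using (stalk_criteria u hW x hxW).2.1.mp hx
  refine ⟨X.basicOpen (∏ q ∈ gen, s q), fun y hy => ?_, (X.basicOpen _).2,
    (primeCompl_primeIdealOf hW x hxW _).mp (prod_mem fun q _ =>
      (primeCompl_primeIdealOf hW x hxW _).mpr (hs q))⟩
  refine (stalk_criteria u hW y (X.basicOpen_le _ hy)).2.1.mpr fun q => ⟨_, hy, ?_⟩
  have hq : q ∈ Submodule.span Γ(X, W) (gen : Set Γ(N, W)) := by rw [hgen]; trivial
  suffices (∏ i ∈ gen, s i) • q ∈ LinearMap.range (FlatLocus.appL u W) from this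
  induction hq using Submodule.span_induction with
  | mem q hq =>
    rw [← Finset.prod_erase_mul _ _ hq, mul_smul, ← hp]
    exact Submodule.smul_mem _ _ (LinearMap.mem_range_self _ _)
  | zero => rw [smul_zero]; exact zero_mem _
  | add a b _ _ ha hb => rw [smul_add]; exact add_mem ha hb
  | smul r a _ ha => rw [smul_comm]; exact Submodule.smul_mem _ r ha

/-- The bijectivity locus of a map between modules of finite type and finite presentation is open. -/
theorem isOpen_stalk_bijective (hM : CohB1.IsFT M) (hN : CohB1.IsFP N) :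
    IsOpen {x | Function.Bijective (stalkLin u x)} := by
  refine isOpen_iff_forall_mem_open.mpr fun x hx => ?_
  obtain ⟨_, ⟨W : X.Opens, (hW : IsAffineOpen W), rfl⟩, hxW, -⟩ :=
    X.isBasis_affineOpens.exists_subset_of_mem_open (Set.mem_univ x) isOpen_univ
  haveI := QCohLib.finite_sections M hM hW
  haveI := QCohLib.finitePresentation_sections N hN hW
  letI := Module.compHom (M.presheaf.stalk x) (X.presheaf.germ W x hxW).hom
  letI := Module.compHom (N.presheaf.stalk x) (X.presheaf.germ W x hxW).hom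
  let S := (hW.primeIdealOf ⟨x, hxW⟩).asIdeal.primeCompl
  let g := FlatLocus.germL M W x hxW
  let h := FlatLocus.germL N W x hxW
  haveI hg : IsLocalizedModule S g := FlatLocus.isLocalizedModule_germL M hW x hxW
  haveI : IsLocalizedModule S h := FlatLocus.isLocalizedModule_germL N hW x hxW
  obtain ⟨ψ, hψ, hψg⟩ := exists_localizedMap u hW x hxW
  have he : IsLocalizedModule.map S g h (FlatLocus.appL u W) = ψ :=
    IsLocalizedModule.ext S g (IsLocalizedModule.map_units h) (LinearMap.ext fun m => by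
      simp only [LinearMap.comp_apply, IsLocalizedModule.map_apply]
      exact (hψg hg m).symm)
  obtain ⟨r, hr, hbij⟩ := exists_bijective_map_powers S g h (FlatLocus.appL u W) (by
    rw [he, hψ]; exact hx)
  have hb := hbij r dvd_rfl
  refine ⟨X.basicOpen r, fun y hy => ?_, (X.basicOpen r).2, (primeCompl_primeIdealOf hW x hxW r).mp hr⟩
  have hyW : y ∈ W := X.basicOpen_le _ hy
  have hpow : ∀ n : ℕ, y ∈ X.basicOpen (r ^ n) := fun n =>
    (primeCompl_primeIdealOf hW y hyW _).mp
      (pow_mem ((primeCompl_primeIdealOf hW y hyW r).mpr hy) n)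
  constructor
  · refine (stalk_criteria u hW y hyW).2.2.mpr fun m hm => ?_
    have h0 : LocalizedModule.mk m (1 : Submonoid.powers r) = 0 := hb.1 (by
      rw [LocalizedModule.map_mk, hm, LocalizedModule.zero_mk, map_zero])
    obtain ⟨⟨_, n, rfl⟩, hn⟩ := (IsLocalizedModule.eq_zero_iff (Submonoid.powers r)
      (LocalizedModule.mkLinearMap (Submonoid.powers r) Γ(M, W))).mp h0
    exact ⟨r ^ n, hpow n, hn⟩
  · refine (stalk_criteria u hW y hyW).2.1.mpr fun q => ?_
    obtain ⟨z, hz⟩ := hb.2 (LocalizedModule.mk q 1)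
    induction z using LocalizedModule.induction_on with | h m t => ?_
    rw [LocalizedModule.map_mk, LocalizedModule.mk_eq] at hz
    obtain ⟨⟨_, k, rfl⟩, hk⟩ := hz
    obtain ⟨_, n, rfl⟩ := t
    refine ⟨r ^ (k + n), hpow _, r ^ k • m, ?_⟩
    rw [map_smul, pow_add, mul_smul]
    simpa [Submonoid.smul_def] using hk

end Groth.Agent.PullbackMod
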