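import Groth.Agent.PullbackMod.Sections
import Groth.Agent.FlatLocus.ModInjFlat

/-!
# Stalks of an inverse image are a base change
-/

set_option autoImplicit false
set_option backward.isDefEq.respectTransparency false
set_option backward.defeqAttrib.useBackward true
set_option linter.style.haveILetI false

universe u

open CategoryTheory CategoryTheory.Limits AlgebraicGeometry TopologicalSpace Opposite
open Groth.Agent.CohBase Groth.Agent.QCohLib Groth.Agent.FlatLocus

namespace Groth.Agent.PullbackMod

variable {X X' : Scheme.{u}} (g : X' ⟶ X) (M : X.Modules) (x' : X')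

/-- The canonical map from a stalk of `M` to a stalk of its inverse image. -/
noncomputable def pullStalk :
    M.presheaf.stalk (g x') →+ ((Scheme.Modules.pullback g).obj M).presheaf.stalk x' :=
  ((TopCat.Presheaf.stalkFunctor Ab (g x')).map
      ((Scheme.Modules.pullbackPushforwardAdjunction g).unit.app M).mapPresheaf ≫
    TopCat.Presheaf.stalkPushforward Ab g.base
      ((Scheme.Modules.pullback g).obj M).presheaf x').hom

lemma pullStalk_germ {W : X.Opens} (hx : g x' ∈ W) (s : Γ(M, W)) :
    pullStalk g M x' (M.presheaf.germ W (g x') hx s) =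
      ((Scheme.Modules.pullback g).obj M).presheaf.germ (g ⁻¹ᵁ W) x' hx
        (((Scheme.Modules.pullbackPushforwardAdjunction g).unit.app M).app W s) := by
  refine (congrArg (TopCat.Presheaf.stalkPushforward Ab g.base
    ((Scheme.Modules.pullback g).obj M).presheaf x')
    (TopCat.Presheaf.stalkFunctor_map_germ_apply W (g x') hx
      ((Scheme.Modules.pullbackPushforwardAdjunction g).unit.app M).mapPresheaf s)).trans ?_
  exact congr($(TopCat.Presheaf.stalkPushforward_germ Ab g.base
    ((Scheme.Modules.pullback g).obj M).presheaf W x' hx) _)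

lemma pullStalk_germ' {W : X.Opens} {W' : X'.Opens} (hx : g x' ∈ W) (hx' : x' ∈ W')
    (e : W' ≤ g ⁻¹ᵁ W) (s : Γ(M, W)) :
    pullStalk g M x' (M.presheaf.germ W (g x') hx s) =
      ((Scheme.Modules.pullback g).obj M).presheaf.germ W' x' hx' (pullMap g M e s) :=
  (pullStalk_germ g M x' hx s).trans
    (((Scheme.Modules.pullback g).obj M).presheaf.germ_res_apply (homOfLE e) x' hx' _).symm

lemma germ_stalkMap_appLE {W : X.Opens} {W' : X'.Opens} (hx : g x' ∈ W) (hx' : x' ∈ W')
    (e : W' ≤ g ⁻¹ᵁ W) (a : Γ(X, W)) :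
    g.stalkMap x' (X.presheaf.germ W (g x') hx a) =
      X'.presheaf.germ W' x' hx' (g.appLE W W' e a) := by
  rw [Scheme.Hom.germ_stalkMap_apply]
  exact (X'.presheaf.germ_res_apply (homOfLE e) x' hx' _).symm

lemma pullStalk_smul (a : X.presheaf.stalk (g x')) (z : M.presheaf.stalk (g x')) :
    pullStalk g M x' (a • z) = g.stalkMap x' a • pullStalk g M x' z := by
  obtain ⟨V, hxV, a, rfl⟩ := TopCat.Presheaf.exists_germ_eq X.presheaf a
  obtain ⟨U, hxU, z, rfl⟩ := TopCat.Presheaf.exists_germ_eq M.presheaf z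
  have hx : g x' ∈ V ⊓ U := ⟨hxV, hxU⟩
  rw [← X.presheaf.germ_res_apply (homOfLE (inf_le_left : V ⊓ U ≤ V)) (g x') hx a,
    ← M.presheaf.germ_res_apply (homOfLE (inf_le_right : V ⊓ U ≤ U)) (g x') hx z]
  erw [← PresheafOfModules.germ_smul (R := X.presheaf) M.val (g x') (V ⊓ U) hx]
  refine (pullStalk_germ' g M x' hx (W' := g ⁻¹ᵁ (V ⊓ U)) hx le_rfl _).trans ?_
  rw [pullMap_smul]
  refine (PresheafOfModules.germ_smul (R := X'.presheaf) ((Scheme.Modules.pullback g).obj M).val
    x' (g ⁻¹ᵁ (V ⊓ U)) hx _ _).trans ?_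
  exact congr_arg₂ (· • ·) (germ_stalkMap_appLE g x' hx hx le_rfl _).symm
    (pullStalk_germ' g M x' hx (W' := g ⁻¹ᵁ (V ⊓ U)) hx le_rfl _).symm

/-- The map of stalks, linear over the stalk downstairs. -/
noncomputable def pullStalkL :
    letI := Module.compHom (((Scheme.Modules.pullback g).obj M).presheaf.stalk x')
      (g.stalkMap x').hom
    M.presheaf.stalk (g x') →ₗ[X.presheaf.stalk (g x')]
      ((Scheme.Modules.pullback g).obj M).presheaf.stalk x' :=
  letI := Module.compHom (((Scheme.Modules.pullback g).obj M).presheaf.stalk x')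
    (g.stalkMap x').hom
  { pullStalk g M x' with map_smul' := pullStalk_smul g M x' }

theorem isBaseChange_pullStalkL [Coh.IsQCoh M] :
    letI : Algebra (X.presheaf.stalk (g x')) (X'.presheaf.stalk x') :=
      (g.stalkMap x').hom.toAlgebra
    letI := Module.compHom (((Scheme.Modules.pullback g).obj M).presheaf.stalk x')
      (g.stalkMap x').hom
    haveI : IsScalarTower (X.presheaf.stalk (g x')) (X'.presheaf.stalk x')
      (((Scheme.Modules.pullback g).obj M).presheaf.stalk x') :=
        .of_algebraMap_smul fun _ _ => rfl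
    IsBaseChange (X'.presheaf.stalk x') (pullStalkL g M x') := by
  let gM := (Scheme.Modules.pullback g).obj M
  let R := X.presheaf.stalk (g x')
  let S := X'.presheaf.stalk x'
  letI : Algebra R S := (g.stalkMap x').hom.toAlgebra
  letI : Module R (gM.presheaf.stalk x') :=
    Module.compHom (gM.presheaf.stalk x') (g.stalkMap x').hom
  haveI : IsScalarTower R S (gM.presheaf.stalk x') := .of_algebraMap_smul fun _ _ => rfl
  show IsBaseChange S (pullStalkL g M x')
  obtain ⟨_, ⟨W : X.Opens, (hW : IsAffineOpen W), rfl⟩, hxW, -⟩ :=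
    X.isBasis_affineOpens.exists_subset_of_mem_open (Set.mem_univ (g x')) isOpen_univ
  obtain ⟨_, ⟨W' : X'.Opens, (hW' : IsAffineOpen W'), rfl⟩, hxW', e⟩ :=
    X'.isBasis_affineOpens.exists_subset_of_mem_open (a := x') (u := ↑(g ⁻¹ᵁ W)) hxW (g ⁻¹ᵁ W).2
  let A := Γ(X, W)
  let B := Γ(X', W')
  let φ := g.appLE W W' e
  letI : Algebra A R := (X.presheaf.germ W (g x') hxW).hom.toAlgebra
  letI : Algebra A B := φ.hom.toAlgebra
  letI : Algebra B S := (X'.presheaf.germ W' x' hxW').hom.toAlgebra
  letI : Algebra A S := ((algebraMap B S).comp (algebraMap A B)).toAlgebra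
  haveI : IsScalarTower A B S := .of_algebraMap_eq fun _ => rfl
  haveI : IsScalarTower A R S :=
    .of_algebraMap_eq fun a => (germ_stalkMap_appLE g x' hxW hxW' e a).symm
  letI : Module A (M.presheaf.stalk (g x')) :=
    Module.compHom _ (X.presheaf.germ W (g x') hxW).hom
  haveI : IsScalarTower A R (M.presheaf.stalk (g x')) := .of_algebraMap_smul fun _ _ => rfl
  letI : Module A Γ(gM, W') := Module.compHom _ φ.hom
  haveI : IsScalarTower A B Γ(gM, W') := .of_algebraMap_smul fun _ _ => rfl
  letI : Module B (gM.presheaf.stalk x') := Module.compHom _ (X'.presheaf.germ W' x' hxW').hom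
  haveI : IsScalarTower B S (gM.presheaf.stalk x') := .of_algebraMap_smul fun _ _ => rfl
  letI : Module A (gM.presheaf.stalk x') :=
    Module.compHom _ ((algebraMap B S).comp (algebraMap A B))
  haveI : IsScalarTower A S (gM.presheaf.stalk x') := .of_algebraMap_smul fun _ _ => rfl
  haveI : IsScalarTower A B (gM.presheaf.stalk x') := .of_algebraMap_smul fun _ _ => rfl
  haveI : IsScalarTower A R (gM.presheaf.stalk x') :=
    .of_algebraMap_smul fun a z => congrArg (· • z) (germ_stalkMap_appLE g x' hxW hxW' e a)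
  haveI : Coh.IsQCoh gM := isQCoh_pullback g M
  haveI := isLocalizedModule_germL M hW (g x') hxW
  haveI := isLocalizedModule_germL gM hW' x' hxW'
  haveI : IsLocalization.AtPrime R (hW.primeIdealOf ⟨g x', hxW⟩).asIdeal :=
    hW.isLocalization_stalk ⟨g x', hxW⟩
  haveI : IsLocalization.AtPrime S (hW'.primeIdealOf ⟨x', hxW'⟩).asIdeal :=
    hW'.isLocalization_stalk ⟨x', hxW'⟩
  have h1 : IsBaseChange R (germL M W (g x') hxW) :=
    IsLocalizedModule.isBaseChange (hW.primeIdealOf ⟨g x', hxW⟩).asIdeal.primeCompl R _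
  have h2 : IsBaseChange S (germL gM W' x' hxW') :=
    IsLocalizedModule.isBaseChange (hW'.primeIdealOf ⟨x', hxW'⟩).asIdeal.primeCompl S _
  have h3 : IsBaseChange B (pullMapL g M e) := isBaseChange_pullMapL g M hW hW' e
  refine IsBaseChange.of_comp h1 ?_
  have h4 := IsBaseChange.comp h3 h2
  refine cast (congrArg (fun l => IsBaseChange S l) ?_) h4
  exact LinearMap.ext fun s => (pullStalk_germ' g M x' hxW hxW' e s).symm

end Groth.Agent.PullbackMod
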