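import Groth.Agent.PullbackMod.Hom
import Groth.Agent.QCohLib.FiniteType

/-! The support of a module of finite type is closed. -/

set_option autoImplicit false
set_option backward.isDefEq.respectTransparency false
set_option linter.style.haveILetI false

universe u

open CategoryTheory CategoryTheory.Limits AlgebraicGeometry TopologicalSpace Opposite

namespace Groth.Agent.PullbackMod

variable {X : Scheme.{u}}

/-- Points where finitely many global generators vanish have zero stalk. -/
theorem subsingleton_stalk_of_generators {M : X.Modules}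
    (G : SheafOfModules.GeneratingSections (R := X.ringCatSheaf) M) (y : X)
    (h : ∀ i, M.presheaf.germ ⊤ y trivial ((G.s i).val (op ⊤)) = 0) :
    Subsingleton (M.presheaf.stalk y) := by
  let l : M.presheaf.stalk y →ₗ[X.presheaf.stalk y] M.presheaf.stalk y := LinearMap.id
  have h0 : G.π ≫ toSky l = 0 := by
    apply (SheafOfModules.freeHomEquiv _).injective
    funext i
    rw [SheafOfModules.freeHomEquiv_comp_apply, Equiv.apply_symm_apply]
    refine Subtype.ext (funext fun U => ?_)
    show (fun hx => l (M.presheaf.germ U.unop y hx.down ((G.s i).val U))) = _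
    funext hx
    rw [← (G.s i).property (homOfLE (le_top : U.unop ≤ ⊤)).op]
    exact (M.presheaf.germ_res_apply (homOfLE (le_top : U.unop ≤ ⊤)) y hx.down _).trans (h i)
  haveI : Epi (C := X.Modules) G.π := G.epi
  have hsky : toSky l = 0 := zero_of_epi_comp _ h0
  refine subsingleton_of_forall_eq 0 fun z => ?_
  obtain ⟨U, hy, m, rfl⟩ := TopCat.Presheaf.exists_germ_eq M.presheaf z
  exact congrFun (congr(($hsky).app U m) :) ⟨hy⟩

/-- The support of a module of finite type is closed. -/
theorem isClosed_support_of_isFT {M : X.Modules} (hM : CohB1.IsFT M) : IsClosed (CohB1.support M) := by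
  rw [← isOpen_compl_iff, isOpen_iff_forall_mem_open]
  intro x hx
  obtain ⟨σ, hσ⟩ := hM.exists_localGeneratorsData
  have hcov : ⨆ i, σ.X i = ⊤ := by
    have h := σ.coversTop
    rw [Opens.coversTop_iff, IsOpenCover] at h
    exact h
  obtain ⟨i, hi⟩ := Opens.mem_iSup.mp (hcov.ge (Set.mem_univ x) : x ∈ ⨆ i, σ.X i)
  let U : X.Opens := σ.X i
  haveI := hσ.isFiniteType i
  let G := σ.generators i
  let e := Scheme.Modules.overEquiv U
  let η : e.functor.obj (SheafOfModules.unit (X.ringCatSheaf.over U)) ≅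
      SheafOfModules.unit (U : Scheme.{u}).ringCatSheaf :=
    (Scheme.Modules.overFunctorEquiv U).app (SheafOfModules.unit X.ringCatSheaf) ≪≫
      Scheme.Modules.restrictUnitIso U.ι
  obtain ⟨G₁, hfin⟩ : ∃ G₁ : SheafOfModules.GeneratingSections (R := (U : Scheme.{u}).ringCatSheaf) (M.restrict U.ι),
      Finite G₁.I :=
    ⟨(G.map e.functor η.symm).ofEpi ((Scheme.Modules.overFunctorEquiv U).app M).hom, inferInstanceAs (Finite G.I)⟩
  let E := fun z : (U : Scheme.{u}) => ((Scheme.Modules.restrictStalkNatIso U.ι z).app M).addCommGroupIsoToAddEquiv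
  have hsub : ∀ z : (U : Scheme.{u}), Subsingleton ((M.restrict U.ι).presheaf.stalk z) ↔ Subsingleton (M.presheaf.stalk (U.ι z)) :=
    fun z => (E z).toEquiv.subsingleton_congr
  let S : Set (U : Scheme.{u}) := {z | ∀ i, (M.restrict U.ι).presheaf.germ ⊤ z trivial ((G₁.s i).val (op ⊤)) = 0}
  have hS : IsOpen S := by
    rw [show S = ⋂ i, {z | (M.restrict U.ι).presheaf.germ ⊤ z trivial ((G₁.s i).val (op ⊤)) = 0} from
      Set.ext fun z => by simp [S]]
    refine isOpen_iInter_of_finite fun i => isOpen_iff_forall_mem_open.mpr fun z hz => ?_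
    obtain ⟨N, hzN, i₁, i₂, hN⟩ := TopCat.Presheaf.germ_eq (M.restrict U.ι).presheaf z (U := ⊤) (V := ⊤) trivial trivial
      ((G₁.s i).val (op ⊤)) 0 (hz.trans (map_zero _).symm)
    refine ⟨N, fun w hw => ?_, N.2, hzN⟩
    refine ((M.restrict U.ι).presheaf.germ_res_apply i₁ w hw _).symm.trans ?_
    rw [hN, map_zero, map_zero]
  refine ⟨U.ι '' S, ?_, U.ι.isOpenEmbedding.isOpenMap _ hS, ⟨⟨x, hi⟩, fun i => ?_, rfl⟩⟩
  · rintro _ ⟨z, hz, rfl⟩ hmem
    exact hmem ((hsub z).mp (subsingleton_stalk_of_generators G₁ z hz))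
  · have : Subsingleton ((M.restrict U.ι).presheaf.stalk ⟨x, hi⟩) := (hsub ⟨x, hi⟩).mpr (not_not.mp hx)
    exact Subsingleton.elim _ _

end Groth.Agent.PullbackMod
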