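import Groth.Agent.PullbackMod.ColimTensor

/-!
# Freeness over the union of a filtered system of algebras holds at a stage
-/

set_option autoImplicit false
set_option backward.isDefEq.respectTransparency false
set_option backward.defeqAttrib.useBackward true
set_option linter.style.haveILetI false

universe u

open scoped TensorProduct
open IsLocalRing

namespace Groth.Agent.PullbackMod.AlgSystem

variable {A : Type u} [CommRing A] [IsLocalRing A] {B : Type u} [CommRing B] [IsLocalRing B]
  [Algebra A B] [IsLocalHom (algebraMap A B)] (S : AlgSystem A B)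
variable {M : Type u} [AddCommGroup M] [Module A M] [Module.FinitePresentation A M]

/-- If `B ⊗ M` is flat over the local ring `B`, then some `R k ⊗ M` is free of the same rank. -/
theorem exists_free_stage [Module.Flat B (B ⊗[A] M)] :
    ∃ n : ℕ, Nonempty ((B ⊗[A] M) ≃ₗ[B] (Fin n → B)) ∧
      ∀ j : S.J, ∃ (k : S.J) (_ : S.Hom j k),
        Nonempty ((S.R k ⊗[A] M) ≃ₗ[S.R k] (Fin n → S.R k)) := by
  classical
  let kA := ResidueField A
  let kB := ResidueField B
  let n := Module.finrank kA (kA ⊗[A] M)
  let bk := Module.finBasis kA (kA ⊗[A] M)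
  have hs : Function.Surjective (TensorProduct.mk A kA M 1) :=
    TensorProduct.mk_surjective A M kA Ideal.Quotient.mk_surjective
  choose v hv using fun i => hs (bk i)
  have hspan := IsLocalRing.span_eq_top_of_tmul_eq_basis (R := A) v bk hv
  let π : (Fin n → A) →ₗ[A] M := Fintype.linearCombination A v
  have hπ : Function.Surjective π := by
    rw [← LinearMap.range_eq_top, Fintype.range_linearCombination, hspan]
  haveI : Module.Free B (B ⊗[A] M) := Module.free_of_flat_of_isLocalRing
  have hn : Module.finrank B (B ⊗[A] M) = n := by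
    rw [← Module.finrank_baseChange (R := kB) (S := B) (M' := B ⊗[A] M),
      (TensorProduct.AlgebraTensorModule.cancelBaseChange A B kB kB M).finrank_eq,
      ← (TensorProduct.AlgebraTensorModule.cancelBaseChange A kA kB kB M).finrank_eq,
      Module.finrank_baseChange]
  let e : (B ⊗[A] M) ≃ₗ[B] (Fin n → B) := (Module.finBasisOfFinrankEq B _ hn).equivFun
  refine ⟨n, ⟨e⟩, fun j => ?_⟩
  have hbij : Function.Bijective (π.lTensor B) := by
    have hsurj : Function.Surjective (π.baseChange B) := LinearMap.lTensor_surjective B hπ
    let e₀ : (B ⊗[A] (Fin n → A)) ≃ₗ[B] (Fin n → B) := TensorProduct.piScalarRight A B B (Fin n)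
    have h1 : Function.Surjective ((e.trans e₀.symm).toLinearMap ∘ₗ π.baseChange B) :=
      (e.trans e₀.symm).surjective.comp hsurj
    exact ⟨fun a b hab => OrzechProperty.injective_of_surjective_endomorphism _ h1
      (congrArg (e.trans e₀.symm) hab), hsurj⟩
  obtain ⟨k, f, hk⟩ := S.exists_lTensor_bijective j π hbij
  have hk' : Function.Bijective (π.baseChange (S.R k)) := hk
  exact ⟨k, f, ⟨(LinearEquiv.ofBijective _ hk').symm.trans
    (TensorProduct.piScalarRight A (S.R k) (S.R k) (Fin n))⟩⟩

end Groth.Agent.PullbackMod.AlgSystem
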