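import Groth.Agent.PullbackMod.LimEventually
import Groth.Agent.PullbackMod.ColimFree
import Groth.Agent.PullbackMod.LocFree

/-!
# Local freeness on a cofiltered limit holds at a stage
-/

set_option autoImplicit false
set_option backward.isDefEq.respectTransparency false
set_option backward.defeqAttrib.useBackward true
set_option linter.style.haveILetI false

universe u

open CategoryTheory CategoryTheory.Limits AlgebraicGeometry TopologicalSpace Opposite
open Groth.Agent.CohBase Groth.Agent.QCohLib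
open scoped TensorProduct

namespace Groth.Agent.PullbackMod

variable {X X' : Scheme.{u}} (M : X.Modules) [Coh.IsQCoh M]

omit [Coh.IsQCoh M] in
lemma freeAt_unique {m n : ℕ} {x : X} (h : FreeAt m M x) (h' : FreeAt n M x) : m = n := by
  obtain ⟨e⟩ := h
  obtain ⟨e'⟩ := h'
  simpa using (e.symm.trans e').finrank_eq

theorem freeAt_of_restrict_iso {U : X.Opens} {n : ℕ}
    (e : M.restrict U.ι ≅ FlatMod.freeMod (↑U) n) {x : X} (hxU : x ∈ U) : FreeAt n M x := by
  obtain ⟨_, ⟨D : X.Opens, (hD : IsAffineOpen D), rfl⟩, hxD, hDU⟩ :=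
    X.isBasis_affineOpens.exists_subset_of_mem_open (a := x) (u := ↑U) hxU U.2
  let v : Spec Γ(X, D) ⟶ (U : Scheme.{u}) := hD.isoSpec.inv ≫ X.homOfLE hDU
  let F := Scheme.Modules.restrictFunctor v
  haveI : PreservesColimitsOfSize.{u, u} F :=
    (Scheme.Modules.restrictAdjunction v).leftAdjoint_preservesColimits
  let e1 := ((Scheme.Modules.restrictFunctorComp v U.ι).symm ≪≫
      Scheme.Modules.restrictFunctorCongr (g := hD.fromSpec)
        (show v ≫ U.ι = hD.fromSpec by simp [v, IsAffineOpen.isoSpec_inv_ι])).symm.app M ≪≫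
    F.mapIso e ≪≫
    F.mapIso (Sigma.whiskerEquiv (Equiv.ulift.{u, 0} (α := Fin n)) fun _ => Iso.refl _).symm ≪≫
    PreservesCoproduct.iso F _ ≪≫
    Limits.Sigma.mapIso (fun _ => Scheme.Modules.restrictUnitIso v) ≪≫
    (tildeFinsupp _).symm
  let eΓ := (moduleSpecΓFunctor (R := Γ(X, D))).mapIso e1 ≪≫
    ((tilde.toTildeΓNatIso (R := Γ(X, D))).app _).symm
  let e' : Γ(M, D) ≃ₗ[Γ(X, D)] (Fin n → Γ(X, D)) :=
    ((topEquiv M hD).symm.trans eΓ.toLinearEquiv).trans
      ((Finsupp.linearEquivFunOnFinite _ _ _).trans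
        (LinearEquiv.funCongrLeft _ _ (Equiv.ulift.{u, 0} (α := Fin n)).symm))
  letI := Module.compHom (M.presheaf.stalk x) (X.presheaf.germ D x hxD).hom
  haveI := FlatLocus.isLocalizedModule_germL M hD x hxD
  letI : Algebra Γ(X, D) (X.presheaf.stalk x) :=
    TopCat.Presheaf.algebra_section_stalk X.presheaf ⟨x, hxD⟩
  haveI := hD.isLocalization_stalk ⟨x, hxD⟩
  haveI : IsScalarTower Γ(X, D) (X.presheaf.stalk x) (M.presheaf.stalk x) :=
    .of_algebraMap_smul fun _ _ => rfl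
  exact ⟨(IsLocalizedModule.isBaseChange (hD.primeIdealOf ⟨x, hxD⟩).asIdeal.primeCompl
      (X.presheaf.stalk x) (FlatLocus.germL M D x hxD)).equiv.symm.trans
    ((e'.baseChange Γ(X, D) (X.presheaf.stalk x)).trans
      (TensorProduct.piScalarRight Γ(X, D) (X.presheaf.stalk x) (X.presheaf.stalk x) (Fin n)))⟩

theorem freeAt_pullback {n : ℕ} (g : X' ⟶ X) (x' : X') (h : FreeAt n M (g x')) :
    FreeAt n ((Scheme.Modules.pullback g).obj M) x' := by
  letI := (g.stalkMap x').hom.toAlgebra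
  obtain ⟨φ, -⟩ := exists_pullback_stalk_equiv g M x'
  obtain ⟨e⟩ := h
  exact ⟨φ.symm.trans ((e.baseChange (X.presheaf.stalk (g x')) (X'.presheaf.stalk x')).trans
    (TensorProduct.piScalarRight _ (X'.presheaf.stalk x') (X'.presheaf.stalk x') (Fin n)))⟩

variable (hM : CohB1.IsFP M)

include hM in
theorem exists_nhd_freeAt {n : ℕ} {x : X} (h : FreeAt n M x) :
    ∃ U : X.Opens, x ∈ U ∧ Nonempty (M.restrict U.ι ≅ FlatMod.freeMod (↑U) n) := by
  obtain ⟨e⟩ := id h
  obtain ⟨U, m, hxU, ⟨i⟩⟩ := FlatLocus.exists_free_nhd M hM x (Module.Flat.of_linearEquiv e)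
  obtain rfl : m = n := freeAt_unique M (freeAt_of_restrict_iso M i hxU) h
  exact ⟨U, hxU, ⟨i⟩⟩

include hM in
theorem isOpen_freeAt (n : ℕ) : IsOpen {x | FreeAt n M x} := by
  refine isOpen_iff_forall_mem_open.mpr fun x hx => ?_
  obtain ⟨U, hxU, ⟨i⟩⟩ := exists_nhd_freeAt M hM hx
  exact ⟨U, fun y hy => freeAt_of_restrict_iso M i hy, U.2, hxU⟩

include hM in
theorem isFinLocFreeOfRank_iff_freeAt (n : ℕ) :
    FlatMod.IsFinLocFreeOfRank n M ↔ ∀ x, FreeAt n M x :=
  ⟨fun h x => by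
    obtain ⟨U, hxU, ⟨i⟩⟩ := h x
    exact freeAt_of_restrict_iso M i hxU, fun h x => exists_nhd_freeAt M hM (h x)⟩

include hM in
theorem isFinLocFree_iff_freeAt : FlatMod.IsFinLocFree M ↔ ∀ x, ∃ n, FreeAt n M x :=
  ⟨fun h x => by
    obtain ⟨U, n, hxU, ⟨i⟩⟩ := h x
    exact ⟨n, freeAt_of_restrict_iso M i hxU⟩, fun h x => by
    obtain ⟨n, hn⟩ := h x
    obtain ⟨U, hxU, hi⟩ := exists_nhd_freeAt M hM hn
    exact ⟨U, n, hxU, hi⟩⟩

section limit

variable {I : Type u} [SmallCategory I] [IsCofiltered I] (D : I ⥤ Scheme.{u}) (c : Cone D)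
  (hc : IsLimit c) [hD : ∀ {i j : I} (f : i ⟶ j), IsAffineHom (D.map f)] (i₀ : I)
  {N : (D.obj i₀).Modules} [Coh.IsQCoh N] (hN : CohB1.IsFP N)

omit [IsCofiltered I] hD [Coh.IsQCoh N] in
theorem freeAt_iff_comp [Coh.IsQCoh N] (n : ℕ) {j k : Over i₀} (f : k ⟶ j) (y : D.obj k.left)
    (h : FreeAt n ((Scheme.Modules.pullback (D.map j.hom)).obj N) (D.map f.left y)) :
    FreeAt n ((Scheme.Modules.pullback (D.map k.hom)).obj N) y := by
  haveI := isQCoh_pullback (D.map j.hom) N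
  obtain ⟨e⟩ := freeAt_pullback _ (D.map f.left) y h
  let i := (Scheme.Modules.pullbackComp (D.map f.left) (D.map j.hom) ≪≫
    Scheme.Modules.pullbackCongr (map_left_comp D i₀ f)).app N
  exact ⟨(LinearEquiv.ofBijective _ ((isIso_iff_stalk i.inv).mp inferInstance y)).trans e⟩

include hc hN in
theorem exists_stage_freeAt (x : c.pt) {n : ℕ}
    (h : FreeAt (X := c.pt) n ((Scheme.Modules.pullback (c.π.app i₀)).obj N) x) :
    ∃ j : Over i₀, FreeAt n ((Scheme.Modules.pullback (D.map j.hom)).obj N) (c.π.app j.left x) := by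
  letI : Algebra ((D.obj i₀).presheaf.stalk (c.π.app i₀ x)) (c.pt.presheaf.stalk x) :=
    ((c.π.app i₀).stalkMap x).hom.toAlgebra
  haveI : IsLocalHom (algebraMap ((D.obj i₀).presheaf.stalk (c.π.app i₀ x))
    (c.pt.presheaf.stalk x)) := inferInstanceAs (IsLocalHom ((c.π.app i₀).stalkMap x).hom)
  haveI := finitePresentation_stalk_of_isFP hN (c.π.app i₀ x)
  obtain ⟨S, ⟨j₀⟩, hS⟩ := exists_algSystem D c hc i₀ x
  obtain ⟨e⟩ := h
  obtain ⟨φ, -⟩ := exists_pullback_stalk_equiv (X' := c.pt) (c.π.app i₀) N x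
  let e₀ := φ.trans e
  haveI : Module.Flat (c.pt.presheaf.stalk x) (c.pt.presheaf.stalk x
      ⊗[(D.obj i₀).presheaf.stalk (c.π.app i₀ x)] N.presheaf.stalk (c.π.app i₀ x)) :=
    Module.Flat.of_linearEquiv e₀
  obtain ⟨m, ⟨e₁⟩, hm⟩ := S.exists_free_stage (M := N.presheaf.stalk (c.π.app i₀ x))
  obtain rfl : n = m := by simpa using (e₀.symm.trans e₁).finrank_eq
  obtain ⟨k, -, hk⟩ := hm j₀
  obtain ⟨j, hj⟩ := hS k
  exact ⟨j, hj.1 n hk⟩

variable [CompactSpace (D.obj i₀)]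

include hc hN in
/-- Local freeness of rank `n` on the limit holds at a stage. -/
theorem isFinLocFreeOfRank_eventually (n : ℕ) :
    FlatMod.IsFinLocFreeOfRank n ((Scheme.Modules.pullback (c.π.app i₀)).obj N) ↔
      ∃ (j : I) (φ : j ⟶ i₀),
        FlatMod.IsFinLocFreeOfRank n ((Scheme.Modules.pullback (D.map φ)).obj N) := by
  haveI hq : ∀ {Y : Scheme.{u}} (g : Y ⟶ D.obj i₀),
      Coh.IsQCoh ((Scheme.Modules.pullback g).obj N) := fun g => isQCoh_pullback g N
  rw [isFinLocFreeOfRank_iff_freeAt _ (isFP_pullback _ N hN)]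
  simp only [isFinLocFreeOfRank_iff_freeAt _ (isFP_pullback _ N hN)]
  refine ⟨fun h => ?_, fun ⟨j, φ, h⟩ x => ?_⟩
  · obtain ⟨j, hj⟩ := exists_all_of_open D c hc i₀
      (fun j y => FreeAt n ((Scheme.Modules.pullback (D.map j.hom)).obj N) y)
      (fun j => isOpen_freeAt _ (isFP_pullback _ N hN) n)
      (fun f y hy => freeAt_iff_comp D i₀ n f y hy)
      (fun x => exists_stage_freeAt D c hc i₀ hN x (h x))
    exact ⟨j.left, j.hom, hj⟩
  · obtain ⟨e⟩ := freeAt_pullback (X' := c.pt) _ (c.π.app j) x (h _)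
    let i := (Scheme.Modules.pullbackComp (c.π.app j) (D.map φ) ≪≫
      Scheme.Modules.pullbackCongr (c.w φ)).app N
    show FreeAt (X := c.pt) n ((Scheme.Modules.pullback (c.π.app i₀)).obj N) x
    exact ⟨(LinearEquiv.ofBijective _ ((isIso_iff_stalk (X := c.pt) i.inv).mp inferInstance x)).trans e⟩

include hc hN in
/-- Local freeness on the limit holds at a stage. -/
theorem isFinLocFree_eventually :
    FlatMod.IsFinLocFree ((Scheme.Modules.pullback (c.π.app i₀)).obj N) ↔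
      ∃ (j : I) (φ : j ⟶ i₀), FlatMod.IsFinLocFree ((Scheme.Modules.pullback (D.map φ)).obj N) := by
  haveI hq : ∀ {Y : Scheme.{u}} (g : Y ⟶ D.obj i₀),
      Coh.IsQCoh ((Scheme.Modules.pullback g).obj N) := fun g => isQCoh_pullback g N
  rw [isFinLocFree_iff_freeAt _ (isFP_pullback _ N hN)]
  simp only [isFinLocFree_iff_freeAt _ (isFP_pullback _ N hN)]
  refine ⟨fun h => ?_, fun ⟨j, φ, h⟩ x => ?_⟩
  · obtain ⟨j, hj⟩ := exists_all_of_open D c hc i₀
      (fun j y => ∃ n, FreeAt n ((Scheme.Modules.pullback (D.map j.hom)).obj N) y)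
      (fun j => by
        rw [Set.ofPred_exists]
        exact isOpen_iUnion fun n => isOpen_freeAt _ (isFP_pullback _ N hN) n)
      (fun f y ⟨n, hy⟩ => ⟨n, freeAt_iff_comp D i₀ n f y hy⟩)
      (fun x => by
        obtain ⟨n, hn⟩ := h x
        obtain ⟨j, hj⟩ := exists_stage_freeAt D c hc i₀ hN x hn
        exact ⟨j, n, hj⟩)
    exact ⟨j.left, j.hom, hj⟩
  · obtain ⟨n, hn⟩ := h (c.π.app j x)
    obtain ⟨e⟩ := freeAt_pullback (X' := c.pt) _ (c.π.app j) x hn
    let i := (Scheme.Modules.pullbackComp (c.π.app j) (D.map φ) ≪≫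
      Scheme.Modules.pullbackCongr (c.w φ)).app N
    refine ⟨n, ?_⟩
    show FreeAt (X := c.pt) n ((Scheme.Modules.pullback (c.π.app i₀)).obj N) x
    exact ⟨(LinearEquiv.ofBijective _ ((isIso_iff_stalk (X := c.pt) i.inv).mp inferInstance x)).trans e⟩

end limit

end Groth.Agent.PullbackMod
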