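import Groth.Agent.PullbackMod.Stalk
import Groth.Agent.FlatLocus.Scheme

/-!
# Flatness of inverse images after base change
-/

set_option autoImplicit false
set_option backward.isDefEq.respectTransparency false
set_option backward.defeqAttrib.useBackward true
set_option linter.style.haveILetI false

universe u

open CategoryTheory CategoryTheory.Limits AlgebraicGeometry TopologicalSpace Opposite
open scoped TensorProduct

namespace Groth.Agent.PullbackMod

section algebra

variable {A A' B B' : Type u} [CommRing A] [CommRing A'] [CommRing B] [CommRing B']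
  [Algebra A A'] [Algebra A B] [Algebra A' B'] [Algebra B B'] [Algebra A B']
  [IsScalarTower A A' B'] [IsScalarTower A B B'] [Algebra.IsPushout A A' B B']

/-- A localization over the algebra is a localization over the image submonoid. -/
theorem isLocalizedModule_algebraMapSubmonoid {M N : Type u} [AddCommGroup M] [AddCommGroup N]
    [Module B M] [Module B N] [Module B' M] [Module B' N] [IsScalarTower B B' M]
    [IsScalarTower B B' N] (T : Submonoid B) (f : M →ₗ[B'] N)
    [IsLocalizedModule T (f.restrictScalars B)] :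
    IsLocalizedModule (Algebra.algebraMapSubmonoid B' T) f := by
  refine ⟨?_, fun y => ?_, fun {x₁ x₂} h => ?_⟩
  · rintro ⟨_, t, ht, rfl⟩
    rw [Module.End.isUnit_iff]
    have := (Module.End.isUnit_iff _).mp
      (IsLocalizedModule.map_units (f.restrictScalars B) ⟨t, ht⟩)
    convert this using 1
    funext z
    exact algebraMap_smul B' t z
  · obtain ⟨⟨x, t⟩, hx⟩ := IsLocalizedModule.surj T (f.restrictScalars B) y
    exact ⟨⟨x, ⟨_, Algebra.mem_algebraMapSubmonoid_of_mem t⟩⟩,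
      (algebraMap_smul B' t.1 y).trans hx⟩
  · obtain ⟨t, ht⟩ := IsLocalizedModule.exists_of_eq (S := T) (f := f.restrictScalars B) h
    refine ⟨⟨_, Algebra.mem_algebraMapSubmonoid_of_mem t⟩, ?_⟩
    exact (algebraMap_smul B' t.1 x₁).trans (ht.trans (algebraMap_smul B' t.1 x₂).symm)

/-- Localizations of a base change are flat over the new base. -/
theorem flat_localized_pushout {M M' : Type u} [AddCommGroup M] [Module B M] [Module A M]
    [IsScalarTower A B M] [AddCommGroup M'] [Module B' M'] [Module B M'] [Module A' M']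
    [IsScalarTower B B' M'] [IsScalarTower A' B' M'] (θ : M →ₗ[B] M') (hθ : IsBaseChange B' θ)
    (T : Submonoid B) [Module.Flat A (LocalizedModule T M)]
    {N' : Type u} [AddCommGroup N'] [Module B' N'] [Module A' N'] [IsScalarTower A' B' N']
    (T' : Submonoid B') (hT : Algebra.algebraMapSubmonoid B' T ≤ T') (g' : M' →ₗ[B'] N')
    [IsLocalizedModule T' g'] : Module.Flat A' N' := by
  let N := LocalizedModule T M
  let mk := LocalizedModule.mkLinearMap T M
  haveI : IsLocalizedModule T (mk.rTensor B') :=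
    IsLocalizedModule.rTensor (R := B) (A := B) (S := T) mk
  haveI h0 : IsLocalizedModule T
      ((TensorProduct.comm B N B').toLinearMap ∘ₗ mk.rTensor B' ∘ₗ
        (TensorProduct.comm B B' M).toLinearMap) := inferInstance
  let L : B' ⊗[B] M →ₗ[B'] B' ⊗[B] N := TensorProduct.AlgebraTensorModule.lTensor B' B' mk
  haveI : IsLocalizedModule T (L.restrictScalars B) := by
    convert h0 using 1
    ext b m
    rfl
  haveI := isLocalizedModule_algebraMapSubmonoid (B' := B') T L
  haveI : IsLocalizedModule (Algebra.algebraMapSubmonoid B' T) (L ∘ₗ hθ.equiv.symm.toLinearMap) :=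
    inferInstance
  haveI : Module.Flat A' (B' ⊗[B] N) :=
    Module.Flat.of_linearEquiv (Algebra.IsPushout.cancelBaseChange A A' B B' N)
  exact FlatLocus.flat_localized_of_le (A := A') (C := B') (M := M') _ T' hT
    (L ∘ₗ hθ.equiv.symm.toLinearMap) g'

/-- Flatness descends along a faithfully flat ring map under a flat map of bases. -/
theorem flat_of_isBaseChange_faithfullyFlat {O O' : Type u} [CommRing O] [CommRing O']
    [Algebra O O'] [Module.FaithfullyFlat O O'] [Algebra A O] [Algebra A O'] [IsScalarTower A O O']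
    {M M' : Type u} [AddCommGroup M] [Module O M] [Module A M] [IsScalarTower A O M]
    [AddCommGroup M'] [Module O' M'] [Module O M'] [Module A M'] [IsScalarTower O O' M']
    [IsScalarTower A O' M'] (θ : M →ₗ[O] M') (hθ : IsBaseChange O' θ) [Module.Flat A M'] :
    Module.Flat A M := by
  rw [Module.Flat.iff_lTensor_injective']
  intro J
  refine (Module.FaithfullyFlat.lTensor_injective_iff_injective O O'
    (TensorProduct.AlgebraTensorModule.lTensor O M J.subtype)).mp ?_
  haveI : Module.Flat A (O' ⊗[O] M) :=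
    Module.Flat.of_linearEquiv (hθ.equiv.restrictScalars A)
  have h1 : Function.Injective (J.subtype.lTensor (O' ⊗[O] M)) :=
    Module.Flat.lTensor_preserves_injective_linearMap _ J.subtype_injective
  let e : ∀ (P : Type u) [AddCommGroup P] [Module A P],
      (O' ⊗[O] M) ⊗[A] P ≃ₗ[O] O' ⊗[O] (M ⊗[A] P) :=
    fun P _ _ => TensorProduct.AlgebraTensorModule.assoc A O O O' M P
  have h2 : ∀ z, (TensorProduct.AlgebraTensorModule.lTensor O M J.subtype).lTensor O'
      (e J z) = e A (J.subtype.lTensor (O' ⊗[O] M) z) := by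
    intro z
    induction z with
    | zero => simp
    | add x y hx hy => simp only [map_add, hx, hy]
    | tmul p j =>
      induction p with
      | zero => simp
      | add x y hx hy => simp only [TensorProduct.add_tmul, map_add, hx, hy]
      | tmul b m => rfl
  intro z₁ z₂ h
  obtain ⟨z₁, rfl⟩ := (e J).surjective z₁
  obtain ⟨z₂, rfl⟩ := (e J).surjective z₂
  rw [h2, h2] at h
  exact congrArg (e J) (h1 ((e A).injective h))

/-- Flatness goes up along a flat ring map. -/
theorem flat_of_isBaseChange_flat {O O' : Type u} [CommRing O] [CommRing O']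
    [Algebra O O'] [Module.Flat O O'] [Algebra A O] [Algebra A O'] [IsScalarTower A O O']
    {M M' : Type u} [AddCommGroup M] [Module O M] [Module A M] [IsScalarTower A O M]
    [AddCommGroup M'] [Module O' M'] [Module O M'] [Module A M'] [IsScalarTower O O' M']
    [IsScalarTower A O' M'] (θ : M →ₗ[O] M') (hθ : IsBaseChange O' θ) [Module.Flat A M] :
    Module.Flat A M' := by
  haveI : Module.Flat A (O' ⊗[O] M) := by
    rw [Module.Flat.iff_lTensor_injective']
    intro J
    have h1 : Function.Injective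
        ((TensorProduct.AlgebraTensorModule.lTensor O M J.subtype).lTensor O') :=
      Module.Flat.lTensor_preserves_injective_linearMap _
        (Module.Flat.lTensor_preserves_injective_linearMap (M := M) J.subtype J.subtype_injective)
    let e : ∀ (P : Type u) [AddCommGroup P] [Module A P],
        (O' ⊗[O] M) ⊗[A] P ≃ₗ[O] O' ⊗[O] (M ⊗[A] P) :=
      fun P _ _ => TensorProduct.AlgebraTensorModule.assoc A O O O' M P
    have h2 : ∀ z, (TensorProduct.AlgebraTensorModule.lTensor O M J.subtype).lTensor O'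
        (e J z) = e A (J.subtype.lTensor (O' ⊗[O] M) z) := by
      intro z
      induction z with
      | zero => simp
      | add x y hx hy => simp only [map_add, hx, hy]
      | tmul p j =>
        induction p with
        | zero => simp
        | add x y hx hy => simp only [TensorProduct.add_tmul, map_add, hx, hy]
        | tmul b m => rfl
    intro z₁ z₂ h
    exact (e J).injective (h1 (by rw [h2, h2, h]))
  exact Module.Flat.of_linearEquiv (hθ.equiv.restrictScalars A).symm

end algebra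

section point

variable {X X' Y Z : Scheme.{u}}

/-- Flatness over a base is transitive. -/
theorem isFlatOverAt_comp (f : X ⟶ Y) (g : Y ⟶ Z) (F : X.Modules) (x : X)
    (hg : (g.stalkMap (f x)).hom.Flat) (h : FlatMod.IsFlatOverAt f F x) :
    FlatMod.IsFlatOverAt (f ≫ g) F x := by
  letI : Algebra (Z.presheaf.stalk (g (f x))) (Y.presheaf.stalk (f x)) :=
    (g.stalkMap (f x)).hom.toAlgebra
  haveI : Module.Flat (Z.presheaf.stalk (g (f x))) (Y.presheaf.stalk (f x)) := hg
  letI : Module (Y.presheaf.stalk (f x)) (F.presheaf.stalk x) := FlatMod.moduleStalkOver f F x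
  haveI : Module.Flat (Y.presheaf.stalk (f x)) (F.presheaf.stalk x) := h
  letI : Module (Z.presheaf.stalk (g (f x))) (F.presheaf.stalk x) :=
    FlatMod.moduleStalkOver (f ≫ g) F x
  haveI : IsScalarTower (Z.presheaf.stalk (g (f x))) (Y.presheaf.stalk (f x))
      (F.presheaf.stalk x) := .of_algebraMap_smul fun r z => by
    show f.stalkMap x (g.stalkMap (f x) r) • z = (f ≫ g).stalkMap x r • z
    rw [Scheme.Hom.stalkMap_comp]
    rfl
  exact Module.Flat.trans (Z.presheaf.stalk (g (f x))) (Y.presheaf.stalk (f x)) _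

/-- Flatness over a base can be tested after a flat change of the source. -/
theorem isFlatOverAt_pullback_comp_iff (φ : X' ⟶ X) (f : X ⟶ Y) (F : X.Modules) [Coh.IsQCoh F]
    (x' : X') (hφ : (φ.stalkMap x').hom.Flat) :
    FlatMod.IsFlatOverAt (φ ≫ f) ((Scheme.Modules.pullback φ).obj F) x' ↔
      FlatMod.IsFlatOverAt f F (φ x') := by
  let A := Y.presheaf.stalk (f (φ x'))
  let O := X.presheaf.stalk (φ x')
  let O' := X'.presheaf.stalk x'
  let gF := (Scheme.Modules.pullback φ).obj F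
  letI : Algebra A O := (f.stalkMap (φ x')).hom.toAlgebra
  letI : Algebra O O' := (φ.stalkMap x').hom.toAlgebra
  letI : Algebra A O' := ((algebraMap O O').comp (algebraMap A O)).toAlgebra
  haveI : IsScalarTower A O O' := .of_algebraMap_eq fun _ => rfl
  haveI : Module.Flat O O' := hφ
  haveI : IsLocalHom (algebraMap O O') := inferInstanceAs (IsLocalHom (φ.stalkMap x').hom)
  haveI : Module.FaithfullyFlat O O' := Module.FaithfullyFlat.of_flat_of_isLocalHom
  letI : Module A (F.presheaf.stalk (φ x')) := FlatMod.moduleStalkOver f F (φ x')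
  haveI : IsScalarTower A O (F.presheaf.stalk (φ x')) := .of_algebraMap_smul fun _ _ => rfl
  letI : Module O (gF.presheaf.stalk x') := Module.compHom _ (φ.stalkMap x').hom
  haveI : IsScalarTower O O' (gF.presheaf.stalk x') := .of_algebraMap_smul fun _ _ => rfl
  letI : Module A (gF.presheaf.stalk x') := FlatMod.moduleStalkOver (φ ≫ f) gF x'
  haveI : IsScalarTower A O' (gF.presheaf.stalk x') := .of_algebraMap_smul fun r z => by
    show φ.stalkMap x' (f.stalkMap (φ x') r) • z = (φ ≫ f).stalkMap x' r • z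
    rw [Scheme.Hom.stalkMap_comp]
    rfl
  have hb : IsBaseChange O' (pullStalkL φ F x') := isBaseChange_pullStalkL φ F x'
  show Module.Flat A (gF.presheaf.stalk x') ↔ Module.Flat A (F.presheaf.stalk (φ x'))
  exact ⟨fun h => by haveI := h; exact flat_of_isBaseChange_faithfullyFlat (A := A) _ hb,
    fun h => by haveI := h; exact flat_of_isBaseChange_flat (A := A) _ hb⟩

end point

section scheme

variable {X S X' S' : Scheme.{u}} {f : X ⟶ S} {f' : X' ⟶ S'} {g' : X' ⟶ X} {g : S' ⟶ S}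
  (hc : IsPullback g' f' f g) {V : S.Opens} {W : X.Opens} {V' : S'.Opens}

include hc in
/-- The part of a fibre product over affine opens is affine with pushout sections. -/
theorem isPushout_appLE (hV : IsAffineOpen V) (hW : IsAffineOpen W) (hV' : IsAffineOpen V')
    (e : W ≤ f ⁻¹ᵁ V) (e' : V' ≤ g ⁻¹ᵁ V) :
    IsAffineOpen (g' ⁻¹ᵁ W ⊓ f' ⁻¹ᵁ V') ∧
      (letI : Algebra Γ(S, V) Γ(X, W) := (f.appLE V W e).hom.toAlgebra
      letI : Algebra Γ(S, V) Γ(S', V') := (g.appLE V V' e').hom.toAlgebra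
      letI : Algebra Γ(X, W) Γ(X', g' ⁻¹ᵁ W ⊓ f' ⁻¹ᵁ V') :=
        (g'.appLE W _ inf_le_left).hom.toAlgebra
      letI : Algebra Γ(S', V') Γ(X', g' ⁻¹ᵁ W ⊓ f' ⁻¹ᵁ V') :=
        (f'.appLE V' _ inf_le_right).hom.toAlgebra
      letI : Algebra Γ(S, V) Γ(X', g' ⁻¹ᵁ W ⊓ f' ⁻¹ᵁ V') :=
        ((g'.appLE W _ inf_le_left).hom.comp (f.appLE V W e).hom).toAlgebra
      haveI : IsScalarTower Γ(S, V) Γ(X, W) Γ(X', g' ⁻¹ᵁ W ⊓ f' ⁻¹ᵁ V') :=
        .of_algebraMap_eq fun _ => rfl
      haveI : IsScalarTower Γ(S, V) Γ(S', V') Γ(X', g' ⁻¹ᵁ W ⊓ f' ⁻¹ᵁ V') :=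
        .of_algebraMap_eq' (by
          show ((f.appLE V W e) ≫ g'.appLE W _ inf_le_left).hom =
            ((g.appLE V V' e') ≫ f'.appLE V' _ inf_le_right).hom
          simp only [Scheme.Hom.appLE_comp_appLE, hc.w])
      Algebra.IsPushout Γ(S, V) Γ(S', V') Γ(X, W) Γ(X', g' ⁻¹ᵁ W ⊓ f' ⁻¹ᵁ V')) := by
  haveI : IsAffine _ := hV
  haveI : IsAffine _ := hW
  haveI : IsAffine _ := hV'
  refine ⟨.of_isIso (Scheme.Hom.isPullback_resLE hc e' e rfl).isoPullback.hom, ?_⟩
  haveI := isIso_pushoutSection_of_isAffineOpen hc e' e rfl hV hV' hW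
  have h := (isIso_pushoutSection_iff hc e' e rfl).mp inferInstance
  letI : Algebra Γ(S, V) Γ(X, W) := (f.appLE V W e).hom.toAlgebra
  letI : Algebra Γ(S, V) Γ(S', V') := (g.appLE V V' e').hom.toAlgebra
  letI : Algebra Γ(X, W) Γ(X', g' ⁻¹ᵁ W ⊓ f' ⁻¹ᵁ V') :=
    (g'.appLE W _ inf_le_left).hom.toAlgebra
  letI : Algebra Γ(S', V') Γ(X', g' ⁻¹ᵁ W ⊓ f' ⁻¹ᵁ V') :=
    (f'.appLE V' _ inf_le_right).hom.toAlgebra
  letI : Algebra Γ(S, V) Γ(X', g' ⁻¹ᵁ W ⊓ f' ⁻¹ᵁ V') :=
    ((g'.appLE W _ inf_le_left).hom.comp (f.appLE V W e).hom).toAlgebra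
  haveI : IsScalarTower Γ(S, V) Γ(X, W) Γ(X', g' ⁻¹ᵁ W ⊓ f' ⁻¹ᵁ V') :=
    .of_algebraMap_eq fun _ => rfl
  haveI : IsScalarTower Γ(S, V) Γ(S', V') Γ(X', g' ⁻¹ᵁ W ⊓ f' ⁻¹ᵁ V') :=
    .of_algebraMap_eq' (by
      show ((f.appLE V W e) ≫ g'.appLE W _ inf_le_left).hom =
        ((g.appLE V V' e') ≫ f'.appLE V' _ inf_le_right).hom
      simp only [Scheme.Hom.appLE_comp_appLE, hc.w])
  exact CommRingCat.isPushout_iff_isPushout.mp h.flip

include hc in
theorem exists_affines (x' : X') :
    ∃ (V : S.Opens) (W : X.Opens) (V' : S'.Opens), IsAffineOpen V ∧ IsAffineOpen W ∧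
      IsAffineOpen V' ∧ W ≤ f ⁻¹ᵁ V ∧ V' ≤ g ⁻¹ᵁ V ∧ g' x' ∈ W ∧ f' x' ∈ V' := by
  obtain ⟨_, ⟨V : S.Opens, (hV : IsAffineOpen V), rfl⟩, hxV, -⟩ :=
    S.isBasis_affineOpens.exists_subset_of_mem_open (Set.mem_univ (f (g' x'))) isOpen_univ
  obtain ⟨_, ⟨W : X.Opens, (hW : IsAffineOpen W), rfl⟩, hxW, hWV⟩ :=
    X.isBasis_affineOpens.exists_subset_of_mem_open (a := g' x') (u := ↑(f ⁻¹ᵁ V)) hxV (f ⁻¹ᵁ V).2
  have hgV : f' x' ∈ g ⁻¹ᵁ V := by
    show g (f' x') ∈ V
    rwa [← Scheme.Hom.comp_apply, ← hc.w, Scheme.Hom.comp_apply]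
  obtain ⟨_, ⟨V' : S'.Opens, (hV' : IsAffineOpen V'), rfl⟩, hxV', hV'V⟩ :=
    S'.isBasis_affineOpens.exists_subset_of_mem_open (a := f' x') (u := ↑(g ⁻¹ᵁ V)) hgV
      (g ⁻¹ᵁ V).2
  exact ⟨V, W, V', hV, hW, hV', hWV, hV'V, hxW, hxV'⟩

lemma algebraMapSubmonoid_le {Y Z : Scheme.{u}} (φ : Y ⟶ Z) {U : Z.Opens} (hU : IsAffineOpen U)
    {U' : Y.Opens} (hU' : IsAffineOpen U') (h : U' ≤ φ ⁻¹ᵁ U) (y : Y) (hy : y ∈ U') :
    letI := (φ.appLE U U' h).hom.toAlgebra
    Algebra.algebraMapSubmonoid Γ(Y, U') (hU.primeIdealOf ⟨φ y, h hy⟩).asIdeal.primeCompl ≤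
      (hU'.primeIdealOf ⟨y, hy⟩).asIdeal.primeCompl := by
  rintro _ ⟨t, ht, rfl⟩ hmem
  apply ht
  rw [← IsAffineOpen.comap_primeIdealOf_appLE U hU U' hU' h hy]
  exact hmem

include hc in
/-- Flatness over the base at a point is stable under base change. -/
theorem isFlatOverAt_baseChange (F : X.Modules) [Coh.IsQCoh F] (x' : X')
    (h : FlatMod.IsFlatOverAt f F (g' x')) :
    FlatMod.IsFlatOverAt f' ((Scheme.Modules.pullback g').obj F) x' := by
  obtain ⟨V, W, V', hV, hW, hV', e, e', hxW, hxV'⟩ := exists_affines hc x'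
  obtain ⟨hW', hpo⟩ := isPushout_appLE hc hV hW hV' e e'
  let W' := g' ⁻¹ᵁ W ⊓ f' ⁻¹ᵁ V'
  let gF := (Scheme.Modules.pullback g').obj F
  haveI : Coh.IsQCoh gF := isQCoh_pullback g' F
  have hx' : x' ∈ W' := ⟨hxW, hxV'⟩
  rw [FlatLocus.isFlatOverAt_iff f' gF hV' hW' inf_le_right x' hx']
  rw [FlatLocus.isFlatOverAt_iff f F hV hW e _ hxW] at h
  letI : Algebra Γ(S, V) Γ(X, W) := (f.appLE V W e).hom.toAlgebra
  letI : Algebra Γ(S, V) Γ(S', V') := (g.appLE V V' e').hom.toAlgebra
  letI : Algebra Γ(X, W) Γ(X', W') := (g'.appLE W W' inf_le_left).hom.toAlgebra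
  letI : Algebra Γ(S', V') Γ(X', W') := (f'.appLE V' W' inf_le_right).hom.toAlgebra
  letI : Algebra Γ(S, V) Γ(X', W') :=
    ((g'.appLE W W' inf_le_left).hom.comp (f.appLE V W e).hom).toAlgebra
  haveI : IsScalarTower Γ(S, V) Γ(X, W) Γ(X', W') := .of_algebraMap_eq fun _ => rfl
  haveI : IsScalarTower Γ(S, V) Γ(S', V') Γ(X', W') := .of_algebraMap_eq' (by
      show ((f.appLE V W e) ≫ g'.appLE W _ inf_le_left).hom =
        ((g.appLE V V' e') ≫ f'.appLE V' _ inf_le_right).hom
      simp only [Scheme.Hom.appLE_comp_appLE, hc.w])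
  haveI : Algebra.IsPushout Γ(S, V) Γ(S', V') Γ(X, W) Γ(X', W') := hpo
  letI : Module Γ(S, V) Γ(F, W) := Module.compHom _ (f.appLE V W e).hom
  haveI : IsScalarTower Γ(S, V) Γ(X, W) Γ(F, W) := .of_algebraMap_smul fun _ _ => rfl
  letI : Module Γ(S', V') Γ(gF, W') := Module.compHom _ (f'.appLE V' W' inf_le_right).hom
  haveI : IsScalarTower Γ(S', V') Γ(X', W') Γ(gF, W') := .of_algebraMap_smul fun _ _ => rfl
  letI : Module Γ(X, W) Γ(gF, W') := Module.compHom _ (g'.appLE W W' inf_le_left).hom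
  haveI : IsScalarTower Γ(X, W) Γ(X', W') Γ(gF, W') := .of_algebraMap_smul fun _ _ => rfl
  haveI := h
  exact flat_localized_pushout (A := Γ(S, V)) (pullMapL g' F (W' := W') inf_le_left)
    (isBaseChange_pullMapL g' F hW hW' inf_le_left) (hW.primeIdealOf ⟨g' x', hxW⟩).asIdeal.primeCompl
    (hW'.primeIdealOf ⟨x', hx'⟩).asIdeal.primeCompl
    (algebraMapSubmonoid_le g' hW hW' inf_le_left x' hx')
    (LocalizedModule.mkLinearMap _ Γ(gF, W'))

include hc in
/-- Flatness of a morphism at a point is stable under base change. -/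
theorem flat_stalkMap_of_isPullback (x' : X') (hg : (g.stalkMap (f' x')).hom.Flat) :
    (g'.stalkMap x').hom.Flat := by
  obtain ⟨V, W, V', hV, hW, hV', e, e', hxW, hxV'⟩ := exists_affines hc x'
  obtain ⟨hW', hpo⟩ := isPushout_appLE hc hV hW hV' e e'
  let W' := g' ⁻¹ᵁ W ⊓ f' ⁻¹ᵁ V'
  have hx' : x' ∈ W' := ⟨hxW, hxV'⟩
  rw [FlatLocus.flat_stalkMap_iff g' hW hW' inf_le_left x' hx']
  rw [FlatLocus.flat_stalkMap_iff g hV hV' e' _ hxV'] at hg
  letI : Algebra Γ(S, V) Γ(X, W) := (f.appLE V W e).hom.toAlgebra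
  letI : Algebra Γ(S, V) Γ(S', V') := (g.appLE V V' e').hom.toAlgebra
  letI : Algebra Γ(X, W) Γ(X', W') := (g'.appLE W W' inf_le_left).hom.toAlgebra
  letI : Algebra Γ(S', V') Γ(X', W') := (f'.appLE V' W' inf_le_right).hom.toAlgebra
  letI : Algebra Γ(S, V) Γ(X', W') :=
    ((g'.appLE W W' inf_le_left).hom.comp (f.appLE V W e).hom).toAlgebra
  haveI : IsScalarTower Γ(S, V) Γ(X, W) Γ(X', W') := .of_algebraMap_eq fun _ => rfl
  haveI : IsScalarTower Γ(S, V) Γ(S', V') Γ(X', W') := .of_algebraMap_eq' (by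
      show ((f.appLE V W e) ≫ g'.appLE W _ inf_le_left).hom =
        ((g.appLE V V' e') ≫ f'.appLE V' _ inf_le_right).hom
      simp only [Scheme.Hom.appLE_comp_appLE, hc.w])
  haveI : Algebra.IsPushout Γ(S, V) Γ(S', V') Γ(X, W) Γ(X', W') := hpo
  haveI : Algebra.IsPushout Γ(S, V) Γ(X, W) Γ(S', V') Γ(X', W') := Algebra.IsPushout.symm hpo
  haveI := hg
  exact flat_localized_pushout (A := Γ(S, V)) (A' := Γ(X, W))
    (Algebra.linearMap Γ(S', V') Γ(X', W')) (IsBaseChange.linearMap _ _)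
    (hV'.primeIdealOf ⟨f' x', hxV'⟩).asIdeal.primeCompl
    (hW'.primeIdealOf ⟨x', hx'⟩).asIdeal.primeCompl
    (algebraMapSubmonoid_le f' hV' hW' inf_le_right x' hx')
    (LocalizedModule.mkLinearMap _ Γ(X', W'))

include hc in
/-- Flatness over the base descends along a base change flat at the point. -/
theorem isFlatOverAt_of_baseChange (F : X.Modules) [Coh.IsQCoh F] (x' : X')
    (hg : (g.stalkMap (f' x')).hom.Flat)
    (h : FlatMod.IsFlatOverAt f' ((Scheme.Modules.pullback g').obj F) x') :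
    FlatMod.IsFlatOverAt f F (g' x') := by
  refine (isFlatOverAt_pullback_comp_iff g' f F x' (flat_stalkMap_of_isPullback hc x' hg)).mp ?_
  rw [hc.w]
  exact isFlatOverAt_comp f' g _ x' hg h

end scheme

end Groth.Agent.PullbackMod
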