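import Groth.Agent.PullbackMod.Props
import Groth.Agent.PullbackMod.Flat
import Groth.Agent.FlatLocus.FibreCritMod
import Groth.Agent.FlatLocus.ModInjFlat

/-!
# The flat locus over an intermediate base commutes with base change
-/

set_option autoImplicit false
set_option backward.isDefEq.respectTransparency false
set_option backward.defeqAttrib.useBackward true
set_option linter.style.haveILetI false

universe u

open CategoryTheory CategoryTheory.Limits AlgebraicGeometry IsLocalRing
open Groth.Agent.FlatLocus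

namespace Groth.Agent.PullbackMod

variable {X Y S : Scheme.{u}}

theorem isFlatOverAt_of_iso {F G : X.Modules} (e : F ≅ G) (f : X ⟶ Y) (x : X)
    (h : FlatMod.IsFlatOverAt f F x) : FlatMod.IsFlatOverAt f G x := by
  letI := FlatMod.moduleStalkOver f F x
  letI := FlatMod.moduleStalkOver f G x
  let eS : F.presheaf.stalk x ≅ G.presheaf.stalk x :=
    (TopCat.Presheaf.stalkFunctor Ab x).mapIso ((Scheme.Modules.toPresheaf X).mapIso e)
  let l : F.presheaf.stalk x →ₗ[Y.presheaf.stalk (f x)] G.presheaf.stalk x :=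
    { toFun := stalkHom e.hom x
      map_add' := fun a b => map_add _ a b
      map_smul' := fun r z => by
        obtain ⟨V, hxV, a, ha⟩ := TopCat.Presheaf.exists_germ_eq X.presheaf (f.stalkMap x r)
        show stalkHom e.hom x (f.stalkMap x r • z) = f.stalkMap x r • stalkHom e.hom x z
        rw [← ha]
        exact stalk_map_sc e.hom x hxV a z }
  haveI : Module.Flat (Y.presheaf.stalk (f x)) (F.presheaf.stalk x) := h
  exact Module.Flat.of_linearEquiv
    (LinearEquiv.ofBijective l (ConcreteCategory.bijective_of_isIso eS.hom)).symm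

variable (f : X ⟶ Y) (g : Y ⟶ S)

theorem isPullback_fiberMap (s : S) :
    IsPullback ((f ≫ g).fiberι s) (MoreMor.fiberMap f g s) f (g.fiberι s) := by
  refine IsPullback.of_bot ?_ (fiberMap_fiberι f g s).symm
    (IsPullback.of_hasPullback g (S.fromSpecResidueField s))
  rw [show MoreMor.fiberMap f g s ≫ pullback.snd g (S.fromSpecResidueField s) =
    pullback.snd (f ≫ g) (S.fromSpecResidueField s) from pullback.lift_snd _ _ _]
  exact IsPullback.of_hasPullback (f ≫ g) (S.fromSpecResidueField s)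

theorem flat_quot_of_isFlatOverAt_fiber (F : X.Modules) [Coh.IsQCoh F] (s : S)
    (z : (f ≫ g).fiber s)
    (h : FlatMod.IsFlatOverAt (MoreMor.fiberMap f g s)
      ((Scheme.Modules.pullback ((f ≫ g).fiberι s)).obj F) z) :
    letI := FlatMod.moduleStalkOver f F ((f ≫ g).fiberι s z)
    Module.Flat (Y.presheaf.stalk (f ((f ≫ g).fiberι s z)) ⧸
        (maximalIdeal (S.presheaf.stalk (g (f ((f ≫ g).fiberι s z))))).map
          (g.stalkMap (f ((f ≫ g).fiberι s z))).hom)
        (F.presheaf.stalk ((f ≫ g).fiberι s z) ⧸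
          ((maximalIdeal (S.presheaf.stalk (g (f ((f ≫ g).fiberι s z))))).map
            (g.stalkMap (f ((f ≫ g).fiberι s z))).hom •
            (⊤ : Submodule (Y.presheaf.stalk (f ((f ≫ g).fiberι s z)))
              (F.presheaf.stalk ((f ≫ g).fiberι s z))))) := by
  let ι₁ := (f ≫ g).fiberι s
  let x := ι₁ z
  let y := f x
  let w := MoreMor.fiberMap f g s z
  let F₁ := (Scheme.Modules.pullback ι₁).obj F
  let φX := ι₁.stalkMap z
  let φY := toFiberStalk g s w y (fiberι_fiberMap f g s z)
  let ψ := (MoreMor.fiberMap f g s).stalkMap z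
  let I : Ideal (Y.presheaf.stalk y) :=
    (maximalIdeal (S.presheaf.stalk (g y))).map (g.stalkMap y).hom
  letI : Module (Y.presheaf.stalk y) (F.presheaf.stalk x) := FlatMod.moduleStalkOver f F x
  letI : Algebra (Y.presheaf.stalk y) (X.presheaf.stalk x) := (f.stalkMap x).hom.toAlgebra
  haveI : IsScalarTower (Y.presheaf.stalk y) (X.presheaf.stalk x) (F.presheaf.stalk x) :=
    .of_algebraMap_smul fun _ _ => rfl
  show Module.Flat (Y.presheaf.stalk y ⧸ I)
    (F.presheaf.stalk x ⧸ (I • ⊤ : Submodule (Y.presheaf.stalk y) (F.presheaf.stalk x)))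
  obtain ⟨hYs, hYk⟩ := toFiberStalk_spec g s w y (fiberι_fiberMap f g s z)
  let J : Ideal (X.presheaf.stalk x) := I.map (algebraMap _ _)
  have hXs : Function.Surjective φX := fiberι_stalkMap_surjective (f ≫ g) s z
  have hXk : RingHom.ker φX.hom = J := by
    rw [ker_fiberι_stalkMap (f ≫ g) s z]
    show Ideal.map ((f ≫ g).stalkMap x).hom _ = _
    rw [Scheme.Hom.stalkMap_comp, CommRingCat.hom_comp, ← Ideal.map_map]
    rfl
  -- the fibre stalk as a quotient
  letI : Algebra (X.presheaf.stalk x) (((f ≫ g).fiber s).presheaf.stalk z) := φX.hom.toAlgebra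
  letI : Module (X.presheaf.stalk x) (F₁.presheaf.stalk z) := Module.compHom _ φX.hom
  haveI : IsScalarTower (X.presheaf.stalk x) (((f ≫ g).fiber s).presheaf.stalk z)
      (F₁.presheaf.stalk z) := .of_algebraMap_smul fun _ _ => rfl
  have hb : IsBaseChange (((f ≫ g).fiber s).presheaf.stalk z) (pullStalkL ι₁ F z) :=
    isBaseChange_pullStalkL ι₁ F z
  let π := pullStalkL ι₁ F z
  have hπs : Function.Surjective π := fun t => by
    obtain ⟨t, rfl⟩ := hb.equiv.surjective t
    induction t with
    | zero => exact ⟨0, by rw [map_zero, map_zero]⟩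
    | add a b ha hb' =>
      obtain ⟨a', ha⟩ := ha
      obtain ⟨b', hb'⟩ := hb'
      exact ⟨a' + b', by rw [map_add, map_add, ha, hb']⟩
    | tmul b m =>
      obtain ⟨a, rfl⟩ := hXs b
      refine ⟨a • m, ?_⟩
      rw [IsBaseChange.equiv_tmul, map_smul]
      rfl
  let Q := F.presheaf.stalk x ⧸ (J • ⊤ : Submodule (X.presheaf.stalk x) (F.presheaf.stalk x))
  let eX : (X.presheaf.stalk x ⧸ J) ≃+* ((f ≫ g).fiber s).presheaf.stalk z :=
    RingEquiv.ofBijective (Ideal.Quotient.lift J φX.hom fun a ha => by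
        rw [← RingHom.mem_ker, hXk]; exact ha)
      ⟨RingHom.lift_injective_of_ker_le_ideal J _ hXk.le, fun c => by
        obtain ⟨a, rfl⟩ := hXs c
        exact ⟨Ideal.Quotient.mk J a, rfl⟩⟩
  letI : Module (((f ≫ g).fiber s).presheaf.stalk z) Q := Module.compHom Q eX.symm.toRingHom
  haveI : IsScalarTower (X.presheaf.stalk x) (((f ≫ g).fiber s).presheaf.stalk z) Q :=
    .of_algebraMap_smul fun a q => by
      show eX.symm (φX a) • q = a • q
      rw [show eX.symm (φX a) = Ideal.Quotient.mk J a from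
        eX.symm_apply_eq.mpr rfl]
      obtain ⟨m, rfl⟩ := Submodule.Quotient.mk_surjective _ q
      rfl
  have hker : ∀ m, π m = 0 ↔ m ∈ (J • ⊤ : Submodule (X.presheaf.stalk x) (F.presheaf.stalk x)) := by
    intro m
    refine ⟨fun hm => ?_, fun hm => ?_⟩
    · have h2 := hb.lift_eq (Submodule.mkQ (J • ⊤ : Submodule (X.presheaf.stalk x)
        (F.presheaf.stalk x)) : F.presheaf.stalk x →ₗ[X.presheaf.stalk x] Q) m
      rw [show pullStalkL ι₁ F z m = 0 from hm, map_zero] at h2
      exact (Submodule.Quotient.mk_eq_zero _).mp h2.symm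
    · refine Submodule.smul_induction_on hm (fun a ha n _ => ?_) fun a b ha hb' => by
        rw [map_add, ha, hb', add_zero]
      rw [map_smul]
      show φX a • π n = 0
      rw [show φX a = 0 from RingHom.mem_ker.mp (hXk.ge ha), zero_smul]
  -- transport of flatness
  let eY : Y.presheaf.stalk y ⧸ I →+* (g.fiber s).presheaf.stalk w :=
    Ideal.Quotient.lift I φY.hom fun a ha => by rw [← RingHom.mem_ker, hYk]; exact ha
  have heY : Function.Bijective eY := by
    refine ⟨?_, fun c => ?_⟩
    · refine RingHom.lift_injective_of_ker_le_ideal I _ ?_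
      rw [hYk]
    · obtain ⟨a, rfl⟩ := hYs c
      exact ⟨Ideal.Quotient.mk I a, rfl⟩
  letI : Algebra (Y.presheaf.stalk y ⧸ I) ((g.fiber s).presheaf.stalk w) := eY.toAlgebra
  haveI : Module.Flat (Y.presheaf.stalk y ⧸ I) ((g.fiber s).presheaf.stalk w) :=
    RingHom.Flat.of_bijective heY
  letI : Module ((g.fiber s).presheaf.stalk w) (F₁.presheaf.stalk z) :=
    FlatMod.moduleStalkOver (MoreMor.fiberMap f g s) F₁ z
  haveI : Module.Flat ((g.fiber s).presheaf.stalk w) (F₁.presheaf.stalk z) := h
  letI : Module (Y.presheaf.stalk y ⧸ I) (F₁.presheaf.stalk z) := Module.compHom _ eY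
  haveI : IsScalarTower (Y.presheaf.stalk y ⧸ I) ((g.fiber s).presheaf.stalk w)
      (F₁.presheaf.stalk z) := .of_algebraMap_smul fun _ _ => rfl
  haveI : Module.Flat (Y.presheaf.stalk y ⧸ I) (F₁.presheaf.stalk z) :=
    Module.Flat.trans _ ((g.fiber s).presheaf.stalk w) _
  have hI : ∀ m, m ∈ (I • ⊤ : Submodule (Y.presheaf.stalk y) (F.presheaf.stalk x)) ↔
      m ∈ (J • ⊤ : Submodule (X.presheaf.stalk x) (F.presheaf.stalk x)) := fun m => by
    rw [← Submodule.restrictScalars_mem (Y.presheaf.stalk y)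
      (J • ⊤ : Submodule (X.presheaf.stalk x) (F.presheaf.stalk x))]
    rw [Submodule.restrictScalars_map_smul_eq, Submodule.restrictScalars_top]
  let q : (F.presheaf.stalk x ⧸ (I • ⊤ : Submodule (Y.presheaf.stalk y) (F.presheaf.stalk x))) →
      F₁.presheaf.stalk z := Quotient.lift π fun a b hab => by
    rw [← sub_eq_zero, ← map_sub, hker, ← hI]
    exact (Submodule.quotientRel_def _).mp hab
  let l : (F.presheaf.stalk x ⧸ (I • ⊤ : Submodule (Y.presheaf.stalk y) (F.presheaf.stalk x)))
      →ₗ[Y.presheaf.stalk y ⧸ I] F₁.presheaf.stalk z :=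
    { toFun := q
      map_add' := fun a b => by
        obtain ⟨a, rfl⟩ := Submodule.Quotient.mk_surjective _ a
        obtain ⟨b, rfl⟩ := Submodule.Quotient.mk_surjective _ b
        exact map_add π a b
      map_smul' := fun c a => by
        obtain ⟨c, rfl⟩ := Ideal.Quotient.mk_surjective c
        obtain ⟨a, rfl⟩ := Submodule.Quotient.mk_surjective _ a
        refine (map_smul π (f.stalkMap x c) a).trans ?_
        show φX (f.stalkMap x c) • π a = ψ (φY c) • π a
        exact congrArg (· • π a) (ConcreteCategory.congr_hom (toFiberStalk_comp f g s z) c).symm }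
  have hl : Function.Bijective l := by
    refine ⟨(injective_iff_map_eq_zero l).mpr fun a ha => ?_, fun t => ?_⟩
    · obtain ⟨a, rfl⟩ := Submodule.Quotient.mk_surjective _ a
      exact (Submodule.Quotient.mk_eq_zero _).mpr ((hI a).mpr ((hker a).mp ha))
    · obtain ⟨m, rfl⟩ := hπs t
      exact ⟨Submodule.Quotient.mk m, rfl⟩
  exact Module.Flat.of_linearEquiv (LinearEquiv.ofBijective l hl)

variable {X' Y' S' : Scheme.{u}}

/-- Flatness over an intermediate base descends along any base change. -/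
theorem isFlatOverAt_of_baseChange_of_flat [LocallyOfFinitePresentation (f ≫ g)]
    [LocallyOfFiniteType g] (F : X.Modules) [Coh.IsQCoh F] (hF : CohB1.IsFP F)
    {h : S' ⟶ S} {gY : Y' ⟶ Y} {g' : Y' ⟶ S'} (hY : IsPullback gY g' g h)
    {gX : X' ⟶ X} {f' : X' ⟶ Y'} (hX : IsPullback gX (f' ≫ g') (f ≫ g) h)
    (w : gX ≫ f = f' ≫ gY) (x' : X')
    (h1 : FlatMod.IsFlatOverAt (f ≫ g) F (gX x'))
    (h2 : FlatMod.IsFlatOverAt f' ((Scheme.Modules.pullback gX).obj F) x') :
    FlatMod.IsFlatOverAt f F (gX x') := by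
  let s' := (f' ≫ g') x'
  let s := h s'
  let k := Spec.map (h.residueFieldMap s')
  have hk : S'.fromSpecResidueField s' ≫ h = k ≫ S.fromSpecResidueField s :=
    (Scheme.Hom.SpecMap_residueFieldMap_fromSpecResidueField h s').symm
  -- the fibres
  let z' := (f' ≫ g').asFiber x'
  have hz' : (f' ≫ g').fiberι s' z' = x' := (f' ≫ g').fiberι_asFiber x'
  have hC : IsPullback ((f' ≫ g').fiberι s' ≫ gX) ((f' ≫ g').fiberToSpecResidueField s') (f ≫ g)
      (k ≫ S.fromSpecResidueField s) := by
    rw [← hk]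
    exact (IsPullback.of_hasPullback (f' ≫ g') (S'.fromSpecResidueField s')).paste_horiz hX
  let c : (f' ≫ g').fiber s' ⟶ (f ≫ g).fiber s :=
    pullback.lift ((f' ≫ g').fiberι s' ≫ gX) ((f' ≫ g').fiberToSpecResidueField s' ≫ k)
      (by rw [Category.assoc _ k]; exact hC.w)
  have hc1 : c ≫ (f ≫ g).fiberι s = (f' ≫ g').fiberι s' ≫ gX := pullback.lift_fst _ _ _
  have hc2 : c ≫ (f ≫ g).fiberToSpecResidueField s =
      (f' ≫ g').fiberToSpecResidueField s' ≫ k := pullback.lift_snd _ _ _
  have hCc : IsPullback c ((f' ≫ g').fiberToSpecResidueField s')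
      ((f ≫ g).fiberToSpecResidueField s) k :=
    IsPullback.of_right (h₁₂ := (f ≫ g).fiberι s) (by rw [hc1]; exact hC) hc2
      (IsPullback.of_hasPullback (f ≫ g) (S.fromSpecResidueField s))
  have hD : IsPullback (g'.fiberι s' ≫ gY) (g'.fiberToSpecResidueField s') g
      (k ≫ S.fromSpecResidueField s) := by
    rw [← hk]
    exact (IsPullback.of_hasPullback g' (S'.fromSpecResidueField s')).paste_horiz hY
  let a : g'.fiber s' ⟶ g.fiber s :=
    pullback.lift (g'.fiberι s' ≫ gY) (g'.fiberToSpecResidueField s' ≫ k)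
      (by rw [Category.assoc _ k]; exact hD.w)
  have ha1 : a ≫ g.fiberι s = g'.fiberι s' ≫ gY := pullback.lift_fst _ _ _
  have ha2 : a ≫ g.fiberToSpecResidueField s = g'.fiberToSpecResidueField s' ≫ k :=
    pullback.lift_snd _ _ _
  have hAa : IsPullback a (g'.fiberToSpecResidueField s') (g.fiberToSpecResidueField s) k :=
    IsPullback.of_right (h₁₂ := g.fiberι s) (by rw [ha1]; exact hD) ha2
      (IsPullback.of_hasPullback g (S.fromSpecResidueField s))
  let f₁ := MoreMor.fiberMap f g s
  let f₂ := MoreMor.fiberMap f' g' s'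
  have hsq : IsPullback c f₂ f₁ a := by
    refine IsPullback.of_bot ?_ ?_ hAa
    · rw [show f₂ ≫ g'.fiberToSpecResidueField s' = (f' ≫ g').fiberToSpecResidueField s' from
        pullback.lift_snd _ _ _,
        show f₁ ≫ g.fiberToSpecResidueField s = (f ≫ g).fiberToSpecResidueField s from
        pullback.lift_snd _ _ _]
      exact hCc
    · apply pullback.hom_ext
      · show (c ≫ f₁) ≫ g.fiberι s = (f₂ ≫ a) ≫ g.fiberι s
        rw [Category.assoc, fiberMap_fiberι, reassoc_of% hc1, Category.assoc, ha1,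
          reassoc_of% (fiberMap_fiberι f' g' s'), w]
      · show (c ≫ f₁) ≫ g.fiberToSpecResidueField s = (f₂ ≫ a) ≫ g.fiberToSpecResidueField s
        rw [Category.assoc, show f₁ ≫ g.fiberToSpecResidueField s =
          (f ≫ g).fiberToSpecResidueField s from pullback.lift_snd _ _ _, hc2, Category.assoc, ha2,
          ← Category.assoc f₂, show f₂ ≫ g'.fiberToSpecResidueField s' =
          (f' ≫ g').fiberToSpecResidueField s' from pullback.lift_snd _ _ _]
  -- flatness on the upper fibre
  let F₁ := (Scheme.Modules.pullback ((f ≫ g).fiberι s)).obj F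
  let F' := (Scheme.Modules.pullback gX).obj F
  haveI : Coh.IsQCoh F₁ := isQCoh_pullback _ F
  haveI : Coh.IsQCoh F' := isQCoh_pullback _ F
  have h3 : FlatMod.IsFlatOverAt f₂ ((Scheme.Modules.pullback ((f' ≫ g').fiberι s')).obj F') z' :=
    isFlatOverAt_baseChange (isPullback_fiberMap f' g' s') F' z' (by rw [hz']; exact h2)
  have h4 : FlatMod.IsFlatOverAt f₂ ((Scheme.Modules.pullback c).obj F₁) z' :=
    isFlatOverAt_of_iso ((Scheme.Modules.pullbackComp _ gX).app F ≪≫
      (Scheme.Modules.pullbackCongr hc1.symm).app F ≪≫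
      ((Scheme.Modules.pullbackComp c _).app F).symm) f₂ z' h3
  have hkflat : (k.stalkMap ((g'.fiberToSpecResidueField s') (f₂ z'))).hom.Flat := by
    haveI : Flat k := by
      rw [HasRingHomProperty.Spec_iff (P := @Flat)]
      letI := (h.residueFieldMap s').hom.toAlgebra
      exact Module.Flat.of_free
    exact Flat.stalkMap k _
  have h5 : FlatMod.IsFlatOverAt f₁ F₁ (c z') :=
    isFlatOverAt_of_baseChange hsq F₁ z' (flat_stalkMap_of_isPullback hAa (f₂ z') hkflat) h4
  -- back to `X`
  have hx : (f ≫ g).fiberι s (c z') = gX x' := by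
    rw [← Scheme.Hom.comp_apply, hc1, Scheme.Hom.comp_apply, hz']
  rw [← hx] at h1 ⊢
  exact isFlatOverAt_of_fibre f g F hF _ h1 (flat_quot_of_isFlatOverAt_fiber f g F s (c z') h5)

end Groth.Agent.PullbackMod

namespace Groth.Agent.PullbackMod

variable {X : Scheme.{u}}

theorem isFlatOverAt_id_iff (F : X.Modules) (x : X) :
    FlatMod.IsFlatOverAt (𝟙 X) F x ↔ FlatMod.IsFlatAt F x := by
  letI m := FlatMod.moduleStalkOver (𝟙 X) F x
  have hm : ∀ (r : X.presheaf.stalk x) (z : F.presheaf.stalk x), m.smul r z = r • z := fun r z => by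
    show (Scheme.Hom.stalkMap (𝟙 X) x) r • z = r • z
    rw [Scheme.Hom.stalkMap_id]
    rfl
  have e : @Module.Flat (X.presheaf.stalk x) (F.presheaf.stalk x) _ _ m ↔
      FlatMod.IsFlatAt F x := by
    have : m = (inferInstance : Module (X.presheaf.stalk x) (F.presheaf.stalk x)) :=
      Module.ext' _ _ hm
    rw [this]
    rfl
  exact e

end Groth.Agent.PullbackMod
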