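import Groth.Agent.PullbackMod.Proj
import Groth.Agent.PullbackMod.Flat
import Groth.Agent.PullbackMod.LocFree
import Groth.Agent.PullbackMod.FibreLocus

/-!
# Descent of finiteness along faithfully flat morphisms
-/

set_option autoImplicit false
set_option backward.isDefEq.respectTransparency false
set_option backward.defeqAttrib.useBackward true
set_option linter.style.haveILetI false

universe u

open CategoryTheory CategoryTheory.Limits AlgebraicGeometry TopologicalSpace Opposite
open scoped TensorProduct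

namespace Groth.Agent.PullbackMod

section algebra

variable {R : Type u} [CommRing R]

theorem finitePresentation_of_baseChange (S : Type u) [CommRing S] [Algebra R S]
    [Module.FaithfullyFlat R S] (M : Type u) [AddCommGroup M] [Module R M]
    [Module.FinitePresentation S (S ⊗[R] M)] : Module.FinitePresentation R M := by
  haveI : Module.Finite R M := Module.Finite.of_finite_tensorProduct_of_faithfullyFlat S
  obtain ⟨n, f, hf⟩ := Module.Finite.exists_fin' R M
  refine Module.finitePresentation_of_surjective f hf (Module.Finite.iff_fg.mp ?_)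
  let K := LinearMap.ker f
  have hfg : (LinearMap.ker (f.baseChange S)).FG :=
    Module.FinitePresentation.fg_ker _ (LinearMap.lTensor_surjective S hf)
  have he : Function.Exact (K.subtype.baseChange S) (f.baseChange S) :=
    lTensor_exact S f.exact_subtype_ker_map hf
  have hi : Function.Injective (K.subtype.baseChange S) :=
    Module.Flat.lTensor_preserves_injective_linearMap (M := S) K.subtype K.injective_subtype
  haveI : Module.Finite S (S ⊗[R] K) := by
    haveI : Module.Finite S (LinearMap.range (K.subtype.baseChange S)) :=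
      Module.Finite.iff_fg.mpr (by rw [← LinearMap.exact_iff.mp he]; exact hfg)
    exact Module.Finite.equiv (LinearEquiv.ofInjective _ hi).symm
  exact Module.Finite.of_finite_tensorProduct_of_faithfullyFlat S

variable {ι : Type u} [Fintype ι] (S : ι → Type u) [∀ i, CommRing (S i)] [∀ i, Algebra R (S i)]

theorem faithfullyFlat_pi_of_surjective [∀ i, Module.Flat R (S i)]
    (h : ∀ p : PrimeSpectrum R, ∃ i, p ∈ Set.range (PrimeSpectrum.comap (algebraMap R (S i)))) :
    Module.FaithfullyFlat R (∀ i, S i) := by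
  classical
  haveI : Module.Flat R (∀ i, S i) :=
    Module.Flat.of_linearEquiv (M := Π₀ i, S i) DFinsupp.linearEquivFunOnFintype.symm
  refine Module.FaithfullyFlat.of_comap_surjective fun p => ?_
  obtain ⟨i, q, hq⟩ := h p
  refine ⟨PrimeSpectrum.comap (Pi.evalRingHom S i) q, ?_⟩
  rw [← hq, ← PrimeSpectrum.comap_comp_apply]
  rfl

variable (M : Type u) [AddCommGroup M] [Module R M]

/-- `M ↦ (Π S i) ⊗ M` as a product. -/
theorem exists_pi_tensor_equiv :
    letI : ∀ i, Module (∀ i, S i) (S i ⊗[R] M) := fun i => Module.compHom _ (Pi.evalRingHom S i)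
    Nonempty ((∀ i, S i) ⊗[R] M ≃ₗ[∀ i, S i] ∀ i, S i ⊗[R] M) := by
  classical
  letI : ∀ i, Module (∀ i, S i) (S i ⊗[R] M) := fun i => Module.compHom _ (Pi.evalRingHom S i)
  refine ⟨AddEquiv.toLinearEquiv (TensorProduct.piLeft R M S).toAddEquiv fun t z => ?_⟩
  induction z with
  | zero => simp
  | add x y hx hy =>
    simp only [smul_add, map_add] at hx hy ⊢
    rw [hx, hy]
  | tmul b m =>
    funext i
    show _ = (t i) • ((TensorProduct.piLeft R M S) (b ⊗ₜ[R] m) i)
    simp [TensorProduct.smul_tmul', TensorProduct.piLeft]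

theorem finite_pi_tensor (h : ∀ i, Module.Finite (S i) (S i ⊗[R] M)) :
    Module.Finite (∀ i, S i) ((∀ i, S i) ⊗[R] M) := by
  classical
  letI : ∀ i, Module (∀ i, S i) (S i ⊗[R] M) := fun i => Module.compHom _ (Pi.evalRingHom S i)
  letI : ∀ i, Algebra (∀ i, S i) (S i) := fun i => (Pi.evalRingHom S i).toAlgebra
  haveI : ∀ i, IsScalarTower (∀ i, S i) (S i) (S i ⊗[R] M) := fun i =>
    .of_algebraMap_smul fun _ _ => rfl
  haveI : ∀ i, Module.Finite (∀ i, S i) (S i ⊗[R] M) := fun i => by
    haveI := h i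
    haveI : Module.Finite (∀ i, S i) (S i) := Module.Finite.of_surjective
      (Algebra.linearMap (∀ i, S i) (S i)) fun b => ⟨Pi.single i b, Pi.single_eq_same i b⟩
    exact Module.Finite.trans (S i) _
  obtain ⟨e⟩ := exists_pi_tensor_equiv (R := R) S M
  exact Module.Finite.equiv e.symm

theorem finitePresentation_pi_tensor (h : ∀ i, Module.FinitePresentation (S i) (S i ⊗[R] M)) :
    Module.FinitePresentation (∀ i, S i) ((∀ i, S i) ⊗[R] M) := by
  classical
  letI : ∀ i, Module (∀ i, S i) (S i ⊗[R] M) := fun i => Module.compHom _ (Pi.evalRingHom S i)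
  letI : ∀ i, Algebra (∀ i, S i) (S i) := fun i => (Pi.evalRingHom S i).toAlgebra
  haveI : ∀ i, IsScalarTower (∀ i, S i) (S i) (S i ⊗[R] M) := fun i =>
    .of_algebraMap_smul fun _ _ => rfl
  haveI : ∀ i, Module.FinitePresentation (∀ i, S i) (S i ⊗[R] M) := fun i => by
    haveI := h i
    let e : ∀ i, S i := Pi.single i 1
    haveI : Module.FinitePresentation (∀ i, S i) (S i) :=
      Module.finitePresentation_of_surjective (Algebra.linearMap (∀ i, S i) (S i))
        (fun b => ⟨Pi.single i b, Pi.single_eq_same i b⟩) (by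
          refine ⟨{1 - e}, le_antisymm ?_ fun t ht => ?_⟩
          · rw [Submodule.span_le, Finset.coe_singleton, Set.singleton_subset_iff]
            show (1 - e) i = 0
            simp [e]
          · refine Submodule.mem_span_singleton.mpr ?_ |> (by simpa using ·)
            refine ⟨t, ?_⟩
            funext j
            show t j * (1 - e) j = t j
            obtain rfl | hj := eq_or_ne j i
            · rw [show t j = 0 from ht, zero_mul]
            · simp [e, hj])
    exact Module.FinitePresentation.trans (∀ i, S i) (S i ⊗[R] M) (S i)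
  haveI : Module.FinitePresentation (∀ i, S i) (∀ i, S i ⊗[R] M) := inferInstance
  obtain ⟨e⟩ := exists_pi_tensor_equiv (R := R) S M
  exact Module.FinitePresentation.of_equiv e.symm

end algebra

variable {X X' : Scheme.{u}} (g : X' ⟶ X) (M : X.Modules)

/-- A finite family of affines over an affine open covering it. -/
def HasAffineLift (W : X.Opens) : Prop :=
  ∃ (n : ℕ) (U : Fin n → X'.Opens), (∀ i, IsAffineOpen (U i)) ∧ (∀ i, U i ≤ g ⁻¹ᵁ W) ∧
    ∀ x ∈ W, ∃ i, ∃ x' ∈ U i, g x' = x

theorem hasAffineLift_of_quasiCompact [QuasiCompact g] [Surjective g] {W : X.Opens}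
    (hW : IsAffineOpen W) : HasAffineLift g W := by
  classical
  have hc : IsCompact ((g ⁻¹ᵁ W : X'.Opens) : Set X') := g.isCompact_preimage hW.isCompact
  have : ∀ x' : (g ⁻¹ᵁ W : X'.Opens), ∃ U : X'.Opens, IsAffineOpen U ∧ x'.1 ∈ U ∧ U ≤ g ⁻¹ᵁ W := by
    intro x'
    obtain ⟨_, ⟨U : X'.Opens, (hU : IsAffineOpen U), rfl⟩, hx, hle⟩ :=
      X'.isBasis_affineOpens.exists_subset_of_mem_open (a := x'.1) (u := ↑(g ⁻¹ᵁ W)) x'.2
        (g ⁻¹ᵁ W).2
    exact ⟨U, hU, hx, hle⟩
  choose U hU hx hle using this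
  obtain ⟨s, hs⟩ := hc.elim_finite_subcover (fun x => (U x : Set X')) (fun x => (U x).isOpen)
    fun x hx' => Set.mem_iUnion.mpr ⟨⟨x, hx'⟩, hx _⟩
  refine ⟨s.card, fun i => U (s.equivFin.symm i).1, fun i => hU _, fun i => hle _, fun x hxW => ?_⟩
  obtain ⟨x', rfl⟩ := g.surjective x
  obtain ⟨y, hy, hxy⟩ := Set.mem_iUnion₂.mp (hs (show x' ∈ g ⁻¹ᵁ W from hxW))
  exact ⟨s.equivFin ⟨y, hy⟩, x', by simpa using hxy, rfl⟩

theorem hasAffineLift_of_isOpenMap [Surjective g] (hg : IsOpenMap g.base) {W : X.Opens}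
    (hW : IsAffineOpen W) : HasAffineLift g W := by
  classical
  have : ∀ x : W, ∃ (U : X'.Opens) (x' : X'), IsAffineOpen U ∧ x' ∈ U ∧ g x' = x.1 ∧
      U ≤ g ⁻¹ᵁ W := by
    intro x
    obtain ⟨x', hx'⟩ := g.surjective x.1
    obtain ⟨_, ⟨U : X'.Opens, (hU : IsAffineOpen U), rfl⟩, hx, hle⟩ :=
      X'.isBasis_affineOpens.exists_subset_of_mem_open (a := x') (u := ↑(g ⁻¹ᵁ W))
        (show g x' ∈ W by rw [hx']; exact x.2) (g ⁻¹ᵁ W).2
    exact ⟨U, x', hU, hx, hx', hle⟩
  choose U x' hU hx hgx hle using this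
  obtain ⟨s, hs⟩ := hW.isCompact.elim_finite_subcover (fun x => g.base '' (U x : Set X'))
    (fun x => hg _ (U x).isOpen) fun x hxW =>
      Set.mem_iUnion.mpr ⟨⟨x, hxW⟩, x' ⟨x, hxW⟩, hx _, hgx _⟩
  refine ⟨s.card, fun i => U (s.equivFin.symm i).1, fun i => hU _, fun i => hle _, fun x hxW => ?_⟩
  obtain ⟨y, hy, z, hz, rfl⟩ := Set.mem_iUnion₂.mp (hs hxW)
  exact ⟨s.equivFin ⟨y, hy⟩, z, by simpa using hz, rfl⟩

theorem exists_faithfullyFlat_ring [Flat g] [Coh.IsQCoh M] {W : X.Opens} (hW : IsAffineOpen W)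
    (hl : HasAffineLift g W) :
    ∃ (ι : Type u) (_ : Fintype ι) (U : ι → X'.Opens) (hle : ∀ i, U i ≤ g ⁻¹ᵁ W),
      (∀ i, IsAffineOpen (U i)) ∧
      letI := fun i => (g.appLE W (U i) (hle i)).hom.toAlgebra
      Module.FaithfullyFlat Γ(X, W) (∀ i, Γ(X', U i)) := by
  obtain ⟨n, U, hU, hle, hcov⟩ := hl
  refine ⟨ULift.{u} (Fin n), inferInstance, fun i => U i.down, fun i => hle _, fun i => hU _, ?_⟩
  letI := fun i : ULift.{u} (Fin n) => (g.appLE W (U i.down) (hle i.down)).hom.toAlgebra
  haveI : ∀ i : ULift.{u} (Fin n), Module.Flat Γ(X, W) Γ(X', U i.down) := fun i =>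
    g.flat_appLE hW (hU i.down) (hle i.down)
  refine faithfullyFlat_pi_of_surjective (fun i : ULift.{u} (Fin n) => ↥Γ(X', U i.down)) fun p => ?_
  have hpW : hW.fromSpec p ∈ W := by
    rw [← SetLike.mem_coe, ← hW.range_fromSpec]
    exact ⟨p, rfl⟩
  obtain ⟨i, x', hx', hgx⟩ := hcov _ hpW
  refine ⟨⟨i⟩, (hU i).primeIdealOf ⟨x', hx'⟩, ?_⟩
  apply hW.fromSpec.isOpenEmbedding.injective
  have h := IsAffineOpen.comap_primeIdealOf_appLE W hW (U i) (hU i) (hle i) hx'
  show hW.fromSpec (PrimeSpectrum.comap (g.appLE W (U i) (hle i)).hom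
    ((hU i).primeIdealOf ⟨x', hx'⟩)) = hW.fromSpec p
  rw [h, hW.fromSpec_primeIdealOf]
  exact hgx

theorem finite_sections_descent [Flat g] [Coh.IsQCoh M] {W : X.Opens} (hW : IsAffineOpen W)
    (hl : HasAffineLift g W)
    (h : SheafOfModules.IsFiniteType (R := X'.ringCatSheaf) ((Scheme.Modules.pullback g).obj M)) :
    Module.Finite Γ(X, W) Γ(M, W) := by
  haveI : Coh.IsQCoh ((Scheme.Modules.pullback g).obj M) := isQCoh_pullback g M
  obtain ⟨ι, _, U, hle, hU, hff⟩ := exists_faithfullyFlat_ring g M hW hl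
  letI := fun i => (g.appLE W (U i) (hle i)).hom.toAlgebra
  haveI := hff
  haveI := finite_pi_tensor (fun i => ↥Γ(X', U i)) Γ(M, W) fun i => by
    haveI := QCohLib.finite_sections _ h (hU i)
    obtain ⟨φ, -⟩ := exists_pullback_sections_equiv g M hW (hU i) (hle i)
    exact Module.Finite.equiv φ.symm
  exact Module.Finite.of_finite_tensorProduct_of_faithfullyFlat (∀ i, Γ(X', U i))

theorem finitePresentation_sections_descent [Flat g] [Coh.IsQCoh M] {W : X.Opens}
    (hW : IsAffineOpen W) (hl : HasAffineLift g W)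
    (h : CohB1.IsFP ((Scheme.Modules.pullback g).obj M)) :
    Module.FinitePresentation Γ(X, W) Γ(M, W) := by
  haveI : Coh.IsQCoh ((Scheme.Modules.pullback g).obj M) := isQCoh_pullback g M
  obtain ⟨ι, _, U, hle, hU, hff⟩ := exists_faithfullyFlat_ring g M hW hl
  letI := fun i => (g.appLE W (U i) (hle i)).hom.toAlgebra
  haveI := hff
  haveI := finitePresentation_pi_tensor (fun i => ↥Γ(X', U i)) Γ(M, W) fun i => by
    haveI := QCohLib.finitePresentation_sections _ h (hU i)
    obtain ⟨φ, -⟩ := exists_pullback_sections_equiv g M hW (hU i) (hle i)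
    exact Module.FinitePresentation.of_equiv φ.symm
  exact finitePresentation_of_baseChange (∀ i, Γ(X', U i)) Γ(M, W)

theorem isFiniteType_descent [Flat g] [Coh.IsQCoh M]
    (hl : ∀ W : X.Opens, IsAffineOpen W → HasAffineLift g W)
    (h : SheafOfModules.IsFiniteType (R := X'.ringCatSheaf) ((Scheme.Modules.pullback g).obj M)) :
    SheafOfModules.IsFiniteType (R := X.ringCatSheaf) M :=
  QCohLib.isFiniteType_of_finite M (fun W : X.affineOpens => W.1) (fun W => W.2)
    (QCohLib.iSup_affineOpens_eq_top X) fun W => finite_sections_descent g M W.2 (hl _ W.2) h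

theorem isFP_descent [Flat g] [Coh.IsQCoh M]
    (hl : ∀ W : X.Opens, IsAffineOpen W → HasAffineLift g W)
    (h : CohB1.IsFP ((Scheme.Modules.pullback g).obj M)) : CohB1.IsFP M :=
  isFP_of_finitePresentation M (fun W : X.affineOpens => W.1) (fun W => W.2)
    (QCohLib.iSup_affineOpens_eq_top X) fun W =>
      finitePresentation_sections_descent g M W.2 (hl _ W.2) h

theorem isFlatAt_descent [Coh.IsQCoh M] (x' : X') (hg : (g.stalkMap x').hom.Flat)
    (h : FlatMod.IsFlatAt ((Scheme.Modules.pullback g).obj M) x') : FlatMod.IsFlatAt M (g x') := by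
  have h2 := isFlatOverAt_comp (𝟙 X') g _ x' hg ((isFlatOverAt_id_iff _ x').mpr h)
  rw [Category.id_comp, ← Category.comp_id g] at h2
  refine (isFlatOverAt_id_iff M (g x')).mp ((isFlatOverAt_pullback_comp_iff g (𝟙 X) M x' hg).mp ?_)
  convert h2 using 2
  simp

theorem isFinLocFree_descent [Flat g] [Surjective g] [Coh.IsQCoh M]
    (hl : ∀ W : X.Opens, IsAffineOpen W → HasAffineLift g W)
    (h : FlatMod.IsFinLocFree ((Scheme.Modules.pullback g).obj M)) : FlatMod.IsFinLocFree M := by
  obtain ⟨-, h2, h3⟩ := (isFinLocFree_iff _).mp h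
  refine (isFinLocFree_iff M).mpr ⟨‹_›, isFP_descent g M hl h2, fun x => ?_⟩
  obtain ⟨x', rfl⟩ := g.surjective x
  exact isFlatAt_descent g M x' (Flat.stalkMap g x') (h3 x')

end Groth.Agent.PullbackMod

namespace Groth.Agent.PullbackMod

variable {X : Scheme.{u}}

theorem isFlat_restrict_of_free (F : X.Modules) {U : X.Opens} {n : ℕ}
    (e : F.restrict U.ι ≅ FlatMod.freeMod (↑U) n) (u : (U : Scheme.{u})) :
    FlatMod.IsFlatAt ((Scheme.Modules.pullback U.ι).obj F) u := by
  refine isFlat_of_isFinLocFree _ (fun v => ⟨⊤, n, trivial, ⟨?_⟩⟩) u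
  let j := (⊤ : (U : Scheme.{u}).Opens).ι
  haveI : PreservesColimitsOfSize.{u, u} (Scheme.Modules.restrictFunctor j) :=
    (Scheme.Modules.restrictAdjunction j).leftAdjoint_preservesColimits
  let J := Scheme.Modules.restrictFunctor j
  exact J.mapIso (((Scheme.Modules.restrictFunctorIsoPullback U.ι).app F).symm ≪≫ e ≪≫
      (Sigma.whiskerEquiv (Equiv.ulift.{u, 0} (α := Fin n)) fun _ => Iso.refl _).symm) ≪≫
    PreservesCoproduct.iso J _ ≪≫
    Sigma.whiskerEquiv (Equiv.ulift.{u, 0} (α := Fin n))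
      (fun _ => (Scheme.Modules.restrictUnitIso j).symm)

end Groth.Agent.PullbackMod
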