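import Groth.Agent.PullbackMod.LimFree
import Groth.Agent.FlatGenStable.Basic
import Groth.Agent.FlatGenStable.Reduced

/-!
# Fibre ranks of quasi-coherent modules and local freeness
-/

set_option autoImplicit false
set_option backward.isDefEq.respectTransparency false
set_option backward.defeqAttrib.useBackward true
set_option linter.style.haveILetI false

universe u

open CategoryTheory AlgebraicGeometry TopologicalSpace
open scoped TensorProduct

namespace Groth.Agent.PullbackMod

variable {X : Scheme.{u}} (M : X.Modules)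

/-- The dimension of the fibre at a point. -/
noncomputable def fibreRank (x : X) : ℕ :=
  Module.finrank (IsLocalRing.ResidueField (X.presheaf.stalk x))
    (IsLocalRing.ResidueField (X.presheaf.stalk x) ⊗[X.presheaf.stalk x] M.presheaf.stalk x)

lemma fibreRank_eq_of_freeAt {n : ℕ} {x : X} (h : FreeAt n M x) : fibreRank M x = n := by
  obtain ⟨e⟩ := h
  haveI := Module.Free.of_equiv e.symm
  rw [fibreRank, Module.finrank_baseChange, e.finrank_eq, Module.finrank_fin_fun]

variable [Coh.IsQCoh M]

theorem isFinLocFree_isLocallyConstant (hM : FlatMod.IsFinLocFree M) :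
    IsLocallyConstant (fibreRank M) := by
  refine (IsLocallyConstant.iff_exists_open _).mpr fun x => ?_
  obtain ⟨U, n, hxU, ⟨i⟩⟩ := hM x
  exact ⟨U, U.2, hxU, fun y hy => by
    rw [fibreRank_eq_of_freeAt M (freeAt_of_restrict_iso M i hy),
      fibreRank_eq_of_freeAt M (freeAt_of_restrict_iso M i hxU)]⟩

variable {W : X.Opens} (hW : IsAffineOpen W)

theorem fibreRank_eq (x : X) (hx : x ∈ W) :
    fibreRank M x = Module.finrank (hW.primeIdealOf ⟨x, hx⟩).asIdeal.ResidueField
      ((hW.primeIdealOf ⟨x, hx⟩).asIdeal.ResidueField ⊗[Γ(X, W)] Γ(M, W)) := by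
  let p := (hW.primeIdealOf ⟨x, hx⟩).asIdeal
  let O := X.presheaf.stalk x
  let κ := IsLocalRing.ResidueField O
  letI := Module.compHom (M.presheaf.stalk x) (X.presheaf.germ W x hx).hom
  haveI := FlatLocus.isLocalizedModule_germL M hW x hx
  letI : Algebra Γ(X, W) O := TopCat.Presheaf.algebra_section_stalk X.presheaf ⟨x, hx⟩
  haveI := hW.isLocalization_stalk ⟨x, hx⟩
  haveI : IsScalarTower Γ(X, W) O (M.presheaf.stalk x) := .of_algebraMap_smul fun _ _ => rfl
  let e := (IsLocalizedModule.isBaseChange p.primeCompl O (FlatLocus.germL M W x hx)).equiv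
  let e₁ := (e.baseChange O κ).symm.trans
    (TensorProduct.AlgebraTensorModule.cancelBaseChange Γ(X, W) O κ κ Γ(M, W))
  rw [fibreRank, e₁.finrank_eq]
  let φ : p.ResidueField →+* κ := Ideal.ResidueField.lift p (algebraMap Γ(X, W) κ)
    (fun a ha => by
      rw [RingHom.mem_ker, IsScalarTower.algebraMap_apply Γ(X, W) O κ,
        IsLocalRing.ResidueField.algebraMap_eq, IsLocalRing.residue_eq_zero_iff]
      exact ((IsLocalization.AtPrime.to_map_mem_maximal_iff O p a).mpr ha))
    (fun a ha => by
      rw [Submonoid.mem_comap, IsUnit.mem_submonoid_iff,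
        IsScalarTower.algebraMap_apply Γ(X, W) O κ]
      exact (IsLocalization.map_units O (⟨a, ha⟩ : p.primeCompl)).map _)
  letI : Algebra p.ResidueField κ := φ.toAlgebra
  haveI : IsScalarTower Γ(X, W) p.ResidueField κ :=
    .of_algebraMap_eq fun a => (Ideal.ResidueField.lift_algebraMap _ _ _ _ a).symm
  rw [← (TensorProduct.AlgebraTensorModule.cancelBaseChange Γ(X, W) p.ResidueField κ κ
      Γ(M, W)).finrank_eq, Module.finrank_baseChange]

include hW in
theorem flat_sections_of_flat_stalks (h : ∀ x, Module.Flat (X.presheaf.stalk x) (M.presheaf.stalk x)) :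
    Module.Flat Γ(X, W) Γ(M, W) := by
  refine Module.flat_of_localized_maximal _ fun P _ => ?_
  let x : X := hW.fromSpec ⟨P, inferInstance⟩
  have hx : x ∈ W := by
    have : x ∈ Set.range hW.fromSpec := ⟨_, rfl⟩
    rwa [hW.range_fromSpec] at this
  have hP : hW.primeIdealOf ⟨x, hx⟩ = ⟨P, inferInstance⟩ :=
    hW.fromSpec.isOpenEmbedding.injective (hW.fromSpec_primeIdealOf ⟨x, hx⟩)
  letI := Module.compHom (M.presheaf.stalk x) (X.presheaf.germ W x hx).hom
  haveI : IsLocalizedModule P.primeCompl (FlatLocus.germL M W x hx) := by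
    have := FlatLocus.isLocalizedModule_germL M hW x hx
    rwa [hP] at this
  letI : Algebra Γ(X, W) (X.presheaf.stalk x) :=
    TopCat.Presheaf.algebra_section_stalk X.presheaf ⟨x, hx⟩
  haveI : IsLocalization P.primeCompl (X.presheaf.stalk x) := by
    have := hW.isLocalization_stalk ⟨x, hx⟩
    rwa [hP] at this
  haveI : IsScalarTower Γ(X, W) (X.presheaf.stalk x) (M.presheaf.stalk x) :=
    .of_algebraMap_smul fun _ _ => rfl
  haveI := h x
  haveI : Module.Flat Γ(X, W) (X.presheaf.stalk x) := IsLocalization.flat _ P.primeCompl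
  haveI : Module.Flat Γ(X, W) (M.presheaf.stalk x) := Module.Flat.trans _ (X.presheaf.stalk x) _
  exact Module.Flat.of_linearEquiv
    (IsLocalizedModule.iso P.primeCompl (FlatLocus.germL M W x hx))

theorem fibreRank_fromSpec (p : PrimeSpectrum Γ(X, W)) :
    Module.finrank p.asIdeal.ResidueField (p.asIdeal.ResidueField ⊗[Γ(X, W)] Γ(M, W)) =
      fibreRank M (hW.fromSpec p) := by
  have hx : hW.fromSpec p ∈ W := by
    have : hW.fromSpec p ∈ Set.range hW.fromSpec := ⟨_, rfl⟩
    rwa [hW.range_fromSpec] at this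
  have hP : hW.primeIdealOf ⟨_, hx⟩ = p :=
    hW.fromSpec.isOpenEmbedding.injective (hW.fromSpec_primeIdealOf ⟨_, hx⟩)
  rw [fibreRank_eq M hW _ hx, hP]

include hW in
theorem isLocallyConstant_sections (h : IsLocallyConstant (fibreRank M)) :
    IsLocallyConstant fun p : PrimeSpectrum Γ(X, W) =>
      Module.finrank p.asIdeal.ResidueField (p.asIdeal.ResidueField ⊗[Γ(X, W)] Γ(M, W)) := by
  simp only [fibreRank_fromSpec M hW]
  exact h.comp_continuous hW.fromSpec.continuous

/-- Finite projective sections on all affine opens mean finite locally free. -/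
theorem isFinLocFree_of_forall_affine
    (h : ∀ {V : X.Opens}, IsAffineOpen V → Module.Finite Γ(X, V) Γ(M, V) ∧
      Module.Projective Γ(X, V) Γ(M, V)) : FlatMod.IsFinLocFree M := by
  have hcov : ⨆ V : X.affineOpens, (V : X.Opens) = ⊤ := iSup_affineOpens_eq_top X
  refine (isFinLocFree_iff M).mpr ⟨inferInstance, isFP_of_finitePresentation M
    (fun V : X.affineOpens => (V : X.Opens)) (fun V => V.2) hcov fun V => ?_, fun x => ?_⟩
  · haveI := (h V.2).1
    haveI := (h V.2).2
    exact Module.finitePresentation_of_projective _ _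
  · obtain ⟨_, ⟨V : X.Opens, (hV : IsAffineOpen V), rfl⟩, hxV, -⟩ :=
      X.isBasis_affineOpens.exists_subset_of_mem_open (Set.mem_univ x) isOpen_univ
    haveI := (h hV).2
    letI := Module.compHom (M.presheaf.stalk x) (X.presheaf.germ V x hxV).hom
    haveI := FlatLocus.isLocalizedModule_germL M hV x hxV
    letI : Algebra Γ(X, V) (X.presheaf.stalk x) :=
      TopCat.Presheaf.algebra_section_stalk X.presheaf ⟨x, hxV⟩
    haveI := hV.isLocalization_stalk ⟨x, hxV⟩
    haveI : IsScalarTower Γ(X, V) (X.presheaf.stalk x) (M.presheaf.stalk x) :=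
      .of_algebraMap_smul fun _ _ => rfl
    exact Module.Flat.of_linearEquiv
      (IsLocalizedModule.isBaseChange (hV.primeIdealOf ⟨x, hxV⟩).asIdeal.primeCompl
        (X.presheaf.stalk x) (FlatLocus.germL M V x hxV)).equiv.symm

/-- Criterion over a reduced scheme. -/
theorem isFinLocFree_of_fibreRank_of_isReduced [IsReduced X] (hM : CohB1.IsFT M)
    (h : IsLocallyConstant (fibreRank M)) : FlatMod.IsFinLocFree M :=
  isFinLocFree_of_forall_affine M fun hV => by
    haveI := QCohLib.finite_sections M hM hV
    exact ⟨inferInstance,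
      FlatGenStable.projective_of_isLocallyConstant_fibre (isLocallyConstant_sections M hV h)⟩

/-- Criterion via free stalks. -/
theorem isFinLocFree_of_fibreRank_of_free (hM : CohB1.IsFT M)
    (hfree : ∀ x, Module.Free (X.presheaf.stalk x) (M.presheaf.stalk x))
    (h : IsLocallyConstant (fibreRank M)) : FlatMod.IsFinLocFree M :=
  isFinLocFree_of_forall_affine M fun {V} hV => by
    haveI := QCohLib.finite_sections M hM hV
    haveI := flat_sections_of_flat_stalks M hV fun x => haveI := hfree x; inferInstance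
    refine ⟨inferInstance, FlatGenStable.projective_of_isLocallyConstant (M := Γ(M, V)) ?_⟩
    rw [show Module.rankAtStalk (R := Γ(X, V)) Γ(M, V) = fun p : PrimeSpectrum Γ(X, V) =>
      Module.finrank p.asIdeal.ResidueField (p.asIdeal.ResidueField ⊗[Γ(X, V)] Γ(M, V)) from
        funext fun p => Module.rankAtStalk_eq p]
    exact isLocallyConstant_sections M hV h

end Groth.Agent.PullbackMod
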