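import Groth.Agent.PullbackMod.Stalk

/-!
# Skyscraper modules; stalks of inverse images of arbitrary modules
-/

set_option autoImplicit false
set_option backward.isDefEq.respectTransparency false
set_option backward.defeqAttrib.useBackward true
set_option linter.style.haveILetI false

universe u

open CategoryTheory CategoryTheory.Limits AlgebraicGeometry TopologicalSpace Opposite

namespace Groth.Agent.PullbackMod

variable {X : Scheme.{u}} (x : X) (N : Type u) [AddCommGroup N] [Module (X.presheaf.stalk x) N]

/-- Sections of a skyscraper module. -/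
def SkyObj (U : X.Opens) : Type u := PLift (x ∈ U) → N

noncomputable instance (U : X.Opens) : AddCommGroup (SkyObj x N U) :=
  inferInstanceAs (AddCommGroup (PLift (x ∈ U) → N))

noncomputable instance (U : X.Opens) : Module Γ(X, U) (SkyObj x N U) where
  smul a s h := X.presheaf.germ U x h.down a • s h
  one_smul s := funext fun h => by
    show X.presheaf.germ U x h.down 1 • s h = s h
    rw [map_one, one_smul]
  mul_smul a b s := funext fun h => by
    show X.presheaf.germ U x h.down (a * b) • s h = _
    rw [map_mul, mul_smul]
    rfl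
  smul_zero a := funext fun h => by
    show X.presheaf.germ U x h.down a • (0 : N) = 0
    rw [smul_zero]
  smul_add a s t := funext fun h => smul_add (X.presheaf.germ U x h.down a) (s h) (t h)
  add_smul a b s := funext fun h => by
    show X.presheaf.germ U x h.down (a + b) • s h = _
    rw [map_add, add_smul]
    rfl
  zero_smul s := funext fun h => by
    show X.presheaf.germ U x h.down 0 • s h = 0
    rw [map_zero, zero_smul]

/-- The skyscraper presheaf of abelian groups. -/
noncomputable def skyAb : TopCat.Presheaf Ab X where
  obj U := AddCommGrpCat.of (SkyObj x N U.unop)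
  map {U V} i := AddCommGrpCat.ofHom
    { toFun := fun s h => s ⟨i.unop.le h.down⟩
      map_zero' := rfl
      map_add' := fun _ _ => rfl }
  map_id _ := rfl
  map_comp _ _ := rfl

noncomputable instance (U : X.Opensᵒᵖ) :
    Module (X.ringCatSheaf.obj.obj U) ((skyAb x N).obj U) :=
  inferInstanceAs (Module Γ(X, U.unop) (SkyObj x N U.unop))

/-- The skyscraper presheaf of modules. -/
noncomputable def skyPre : X.PresheafOfModules :=
  PresheafOfModules.ofPresheaf (skyAb x N) fun U V i r s => funext fun h => by
    show X.presheaf.germ U.unop x (i.unop.le h.down) r • s ⟨i.unop.le h.down⟩ =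
      X.presheaf.germ V.unop x h.down (X.presheaf.map i r) • s ⟨i.unop.le h.down⟩
    rw [show i = i.unop.op from rfl, X.presheaf.germ_res_apply]

omit [Module (X.presheaf.stalk x) N] in
theorem skyAb_isSheaf : (skyAb x N).IsSheaf := by
  rw [TopCat.Presheaf.isSheaf_iff_isSheafUniqueGluing]
  intro ι U sf hsf
  classical
  have hx : ∀ h : x ∈ iSup U, ∃ i, x ∈ U i := fun h => Opens.mem_iSup.mp h
  refine ⟨fun h => sf (hx h.down).choose ⟨(hx h.down).choose_spec⟩, fun i => ?_, fun s hs => ?_⟩
  · funext h
    have h2 := congrFun (hsf (hx ((le_iSup U i) h.down)).choose i)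
      ⟨⟨(hx ((le_iSup U i) h.down)).choose_spec, h.down⟩⟩
    exact h2
  · funext h
    exact congrFun (hs (hx h.down).choose) ⟨(hx h.down).choose_spec⟩

/-- The skyscraper module. -/
noncomputable def sky : X.Modules where
  val := skyPre x N
  isSheaf := skyAb_isSheaf x N

variable {x N}

/-- Maps into a skyscraper module from maps of the stalk. -/
noncomputable def toSky {M : X.Modules}
    (l : M.presheaf.stalk x →ₗ[X.presheaf.stalk x] N) : M ⟶ sky x N where
  val := PresheafOfModules.homMk
    { app := fun U => AddCommGrpCat.ofHom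
        (show Γ(M, U.unop) →+ SkyObj x N U.unop from
        { toFun := fun m h => l (M.presheaf.germ U.unop x h.down m)
          map_zero' := funext fun h => by rw [map_zero, map_zero]; rfl
          map_add' := fun a b => funext fun h => by
            show l (M.presheaf.germ U.unop x h.down (a + b)) = _
            rw [map_add, map_add]
            rfl })
      naturality := fun U V i => by
        ext m
        funext h
        show l (M.presheaf.germ V.unop x h.down (M.presheaf.map i.unop.op m)) =
          l (M.presheaf.germ U.unop x (i.unop.le h.down) m)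
        rw [M.presheaf.germ_res_apply] }
    fun U (r : Γ(X, U.unop)) (m : Γ(M, U.unop)) => funext fun h => by
      show l (M.presheaf.germ U.unop x h.down (r • m)) =
        X.presheaf.germ U.unop x h.down r • l (M.presheaf.germ U.unop x h.down m)
      rw [← map_smul]
      exact congrArg l (PresheafOfModules.germ_smul (R := X.presheaf) M.val x U.unop h.down r m)

theorem toSky_app {M : X.Modules} (l : M.presheaf.stalk x →ₗ[X.presheaf.stalk x] N)
    (U : X.Opens) (m : Γ(M, U)) (h : PLift (x ∈ U)) :
    (show SkyObj x N U from (toSky l).app U m) h = l (M.presheaf.germ U x h.down m) := rfl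

/-- The cocone given by a map to a skyscraper module. -/
noncomputable def skyCocone {M : X.Modules} (ψ : M ⟶ sky x N) :
    Cocone ((OpenNhds.inclusion x).op ⋙ M.presheaf) where
  pt := AddCommGrpCat.of N
  ι :=
    { app := fun U => AddCommGrpCat.ofHom
        { toFun := fun m => (show SkyObj x N U.unop.1 from ψ.app U.unop.1 m) ⟨U.unop.2⟩
          map_zero' := by rw [map_zero]; rfl
          map_add' := fun a b => by rw [map_add]; rfl }
      naturality := fun U V i => by
        ext m
        show (show SkyObj x N V.unop.1 from ψ.app V.unop.1 (M.presheaf.map _ m)) ⟨V.unop.2⟩ =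
          (show SkyObj x N U.unop.1 from ψ.app U.unop.1 m) ⟨U.unop.2⟩
        exact congrFun (ConcreteCategory.congr_hom
          (ψ.mapPresheaf.naturality ((OpenNhds.inclusion x).op.map i)) m) ⟨V.unop.2⟩ }

/-- The map of the stalk given by a map to a skyscraper module. -/
noncomputable def ofSky {M : X.Modules} (ψ : M ⟶ sky x N) :
    M.presheaf.stalk x →ₗ[X.presheaf.stalk x] N :=
  let φ : M.presheaf.stalk x →+ N := (colimit.desc _ (skyCocone ψ)).hom
  have hφ : ∀ (U : X.Opens) (hx : x ∈ U) (m : Γ(M, U)),
      φ (M.presheaf.germ U x hx m) = (show SkyObj x N U from ψ.app U m) ⟨hx⟩ := fun U hx m =>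
    ConcreteCategory.congr_hom (colimit.ι_desc (skyCocone ψ) (op ⟨U, hx⟩)) m
  { toFun := φ
    map_add' := map_add φ
    map_smul' := fun a z => by
      obtain ⟨V, hxV, a, rfl⟩ := TopCat.Presheaf.exists_germ_eq X.presheaf a
      obtain ⟨W, hxW, z, rfl⟩ := TopCat.Presheaf.exists_germ_eq M.presheaf z
      have hx : x ∈ V ⊓ W := ⟨hxV, hxW⟩
      rw [← X.presheaf.germ_res_apply (homOfLE (inf_le_left : V ⊓ W ≤ V)) x hx a,
        ← M.presheaf.germ_res_apply (homOfLE (inf_le_right : V ⊓ W ≤ W)) x hx z]
      erw [← PresheafOfModules.germ_smul (R := X.presheaf) M.val x (V ⊓ W) hx, hφ, hφ]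
      exact congrFun (Scheme.Modules.Hom.app_smul ψ _ _) ⟨hx⟩ }

theorem ofSky_germ {M : X.Modules} (ψ : M ⟶ sky x N) (U : X.Opens) (hx : x ∈ U) (m : Γ(M, U)) :
    ofSky ψ (M.presheaf.germ U x hx m) = (show SkyObj x N U from ψ.app U m) ⟨hx⟩ := by
  exact ConcreteCategory.congr_hom (colimit.ι_desc (skyCocone ψ) (op (⟨U, hx⟩ : OpenNhds x))) m

theorem toSky_ofSky {M : X.Modules} (ψ : M ⟶ sky x N) : toSky (ofSky ψ) = ψ := by
  refine Scheme.Modules.hom_ext _ _ fun U => ?_
  refine AddCommGrpCat.hom_ext (AddMonoidHom.ext fun m => ?_)
  show (show SkyObj x N U from (toSky (ofSky ψ)).app U m) = _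
  funext h
  exact ofSky_germ ψ U h.down m

variable {X' : Scheme.{u}} (g : X' ⟶ X)

/-- The stalk of an inverse image is a base change, for every module. -/
theorem isBaseChange_pullStalkL' (M : X.Modules) (x' : X') :
    letI : Algebra (X.presheaf.stalk (g x')) (X'.presheaf.stalk x') :=
      (g.stalkMap x').hom.toAlgebra
    letI := Module.compHom (((Scheme.Modules.pullback g).obj M).presheaf.stalk x')
      (g.stalkMap x').hom
    haveI : IsScalarTower (X.presheaf.stalk (g x')) (X'.presheaf.stalk x')
      (((Scheme.Modules.pullback g).obj M).presheaf.stalk x') :=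
        .of_algebraMap_smul fun _ _ => rfl
    IsBaseChange (X'.presheaf.stalk x') (pullStalkL g M x') := by
  let gM := (Scheme.Modules.pullback g).obj M
  letI : Algebra (X.presheaf.stalk (g x')) (X'.presheaf.stalk x') := (g.stalkMap x').hom.toAlgebra
  letI : Module (X.presheaf.stalk (g x')) (gM.presheaf.stalk x') :=
    Module.compHom (gM.presheaf.stalk x') (g.stalkMap x').hom
  haveI : IsScalarTower (X.presheaf.stalk (g x')) (X'.presheaf.stalk x') (gM.presheaf.stalk x') :=
    .of_algebraMap_smul fun _ _ => rfl
  show IsBaseChange (X'.presheaf.stalk x') (pullStalkL g M x')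
  refine IsBaseChange.of_lift_unique _ fun Q _ _ _ _ l => ?_
  letI : AddCommGroup Q := Module.addCommMonoidToAddCommGroup (X'.presheaf.stalk x')
  let adj := Scheme.Modules.pullbackPushforwardAdjunction g
  let T := sky x' Q
  let S := (Scheme.Modules.pushforward g).obj T
  let ψ0 : M ⟶ S :=
    { val := PresheafOfModules.homMk
        { app := fun U => AddCommGrpCat.ofHom
            (show Γ(M, U.unop) →+ SkyObj x' Q (g ⁻¹ᵁ U.unop) from
            { toFun := fun m h => l (M.presheaf.germ U.unop (g x') h.down m)
              map_zero' := funext fun h => by rw [map_zero, map_zero]; rfl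
              map_add' := fun a b => funext fun h => by
                show l (M.presheaf.germ U.unop (g x') h.down (a + b)) = _
                rw [map_add, map_add]
                rfl })
          naturality := fun U V i => by
            ext m
            funext h
            show l (M.presheaf.germ V.unop (g x') h.down (M.presheaf.map i.unop.op m)) =
              l (M.presheaf.germ U.unop (g x') (i.unop.le h.down) m)
            rw [M.presheaf.germ_res_apply] }
        fun U (r : Γ(X, U.unop)) (m : Γ(M, U.unop)) => funext fun h => by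
          show l (M.presheaf.germ U.unop (g x') h.down (r • m)) =
            X'.presheaf.germ (g ⁻¹ᵁ U.unop) x' h.down (g.app U.unop r) •
              l (M.presheaf.germ U.unop (g x') h.down m)
          rw [← Scheme.Hom.germ_stalkMap_apply, show g.stalkMap x'
              (X.presheaf.germ U.unop (g x') h.down r) = algebraMap (X.presheaf.stalk (g x'))
              (X'.presheaf.stalk x') (X.presheaf.germ U.unop (g x') h.down r) from rfl,
            algebraMap_smul, ← map_smul]
          exact congrArg l (PresheafOfModules.germ_smul (R := X.presheaf) M.val (g x') U.unop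
            h.down r m) }
  have key : ∀ (Ψ : gM ⟶ T) (U : X.Opens) (hx : g x' ∈ U) (m : Γ(M, U)),
      ofSky Ψ (pullStalkL g M x' (M.presheaf.germ U (g x') hx m)) =
        (show SkyObj x' Q (g ⁻¹ᵁ U) from (adj.homEquiv M T Ψ).app U m) ⟨hx⟩ := by
    intro Ψ U hx m
    refine (congrArg (ofSky Ψ) (pullStalk_germ g M x' hx m)).trans ?_
    refine (ofSky_germ Ψ (g ⁻¹ᵁ U) hx _).trans ?_
    rw [Adjunction.homEquiv_unit]
    rfl
  refine ⟨ofSky ((adj.homEquiv M T).symm ψ0), LinearMap.ext fun z => ?_, fun L hL => ?_⟩
  · obtain ⟨U, hx, m, rfl⟩ := TopCat.Presheaf.exists_germ_eq M.presheaf z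
    refine (key _ U hx m).trans ?_
    rw [Equiv.apply_symm_apply]
    rfl
  · have h0 : adj.homEquiv M T (toSky L) = ψ0 := by
      refine Scheme.Modules.hom_ext _ _ fun U => ?_
      refine AddCommGrpCat.hom_ext (AddMonoidHom.ext fun m => ?_)
      show (show SkyObj x' Q (g ⁻¹ᵁ U) from (adj.homEquiv M T (toSky L)).app U m) = _
      funext h
      refine (key (toSky L) U h.down m).symm.trans ?_
      have hL' : ofSky (toSky L) = L := LinearMap.ext fun w => by
        obtain ⟨V, hV, w, rfl⟩ := TopCat.Presheaf.exists_germ_eq gM.presheaf w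
        exact ofSky_germ (toSky L) V hV w
      rw [hL']
      exact LinearMap.congr_fun hL _
    rw [← h0, Equiv.symm_apply_apply]
    refine LinearMap.ext fun w => ?_
    obtain ⟨V, hV, w, rfl⟩ := TopCat.Presheaf.exists_germ_eq gM.presheaf w
    exact (ofSky_germ (toSky L) V hV w).symm

end Groth.Agent.PullbackMod
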