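import Groth.Agent.PullbackMod.LimStalk
import Groth.Agent.PullbackMod.OpenLocus

/-!
# Conditions on inverse images along a limit hold at a stage
-/

set_option autoImplicit false
set_option backward.isDefEq.respectTransparency false
set_option backward.defeqAttrib.useBackward true
set_option linter.style.haveILetI false

universe u

open CategoryTheory CategoryTheory.Limits AlgebraicGeometry TopologicalSpace Opposite

namespace Groth.Agent.PullbackMod

section stable

variable {X X' X'' : Scheme.{u}} {M N : X.Modules} (u : M ⟶ N) (g : X' ⟶ X) (g' : X'' ⟶ X')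
  (k : X'' ⟶ X) (e : g' ≫ g = k)

include e in
theorem pullback_map_stable :
    ((Scheme.Modules.pullback g).map u = 0 → (Scheme.Modules.pullback k).map u = 0) ∧
      (Epi ((Scheme.Modules.pullback g).map u) → Epi ((Scheme.Modules.pullback k).map u)) ∧
      (IsIso ((Scheme.Modules.pullback g).map u) → IsIso ((Scheme.Modules.pullback k).map u)) := by
  obtain ⟨a, b, h⟩ := exists_map_comp_conj u g g' k e
  rw [h]
  exact ⟨fun h0 => by rw [h0, Functor.map_zero, zero_comp, comp_zero],
    fun _ => inferInstance, fun _ => inferInstance⟩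

end stable

variable {I : Type u} [SmallCategory I] [IsCofiltered I] (D : I ⥤ Scheme.{u}) (c : Cone D)
  (hc : IsLimit c) [hD : ∀ {i j : I} (f : i ⟶ j), IsAffineHom (D.map f)] (i₀ : I)
  [CompactSpace (D.obj i₀)] {M N : (D.obj i₀).Modules} [Coh.IsQCoh M] [Coh.IsQCoh N] (u : M ⟶ N)

omit [IsCofiltered I] hD [CompactSpace (D.obj i₀)] [Coh.IsQCoh M] [Coh.IsQCoh N] in
lemma map_left_comp {j k : Over i₀} (f : k ⟶ j) : D.map f.left ≫ D.map j.hom = D.map k.hom := by
  rw [← D.map_comp, Over.w]

include hc in
/-- A map out of a module of finite type vanishing on the limit vanishes at a stage. -/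
theorem zero_eventually (hM : CohB1.IsFT M) :
    (Scheme.Modules.pullback (c.π.app i₀)).map u = 0 ↔
      ∃ (j : I) (φ : j ⟶ i₀), (Scheme.Modules.pullback (D.map φ)).map u = 0 := by
  refine ⟨fun h => ?_, fun ⟨j, φ, h⟩ => (pullback_map_stable u (D.map φ) (c.π.app j) _ (c.w φ)).1 h⟩
  let Q : ∀ j : Over i₀, D.obj j.left → Prop := fun j y =>
    stalkLin ((Scheme.Modules.pullback (D.map j.hom)).map u) y = 0
  have hopen : ∀ j, IsOpen {y | Q j y} := fun j => by
    haveI := isQCoh_pullback (D.map j.hom) M
    haveI := isQCoh_pullback (D.map j.hom) N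
    exact isOpen_stalk_zero _ (isFiniteType_pullback (D.map j.hom) M hM)
  have hmono : ∀ {j k : Over i₀} (f : k ⟶ j) (y : D.obj k.left),
      Q j (D.map f.left y) → Q k y := fun {j k} f y hy => by
    exact (stalk_conditions_comp u (D.map j.hom) (D.map f.left) _ (map_left_comp D i₀ f) y).1 hy
  have hpt : ∀ x : c.pt, ∃ j : Over i₀, Q j (c.π.app j.left x) := fun x => by
    haveI := finite_stalk_of_isFT hM (c.π.app i₀ x)
    exact exists_stage_zero D c hc i₀ x u ((eq_zero_iff_stalk _).mp h x)
  obtain ⟨j, hj⟩ := exists_all_of_open D c hc i₀ Q hopen hmono hpt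
  exact ⟨j.left, j.hom, (eq_zero_iff_stalk _).mpr hj⟩

include hc in
/-- An epimorphism on the limit onto a module of finite type is one at a stage. -/
theorem epi_eventually (hN : CohB1.IsFT N) :
    Epi ((Scheme.Modules.pullback (c.π.app i₀)).map u) ↔
      ∃ (j : I) (φ : j ⟶ i₀), Epi ((Scheme.Modules.pullback (D.map φ)).map u) := by
  refine ⟨fun h => ?_, fun ⟨j, φ, h⟩ => (pullback_map_stable u (D.map φ) (c.π.app j) _ (c.w φ)).2.1 h⟩
  let Q : ∀ j : Over i₀, D.obj j.left → Prop := fun j y =>
    Function.Surjective (stalkLin ((Scheme.Modules.pullback (D.map j.hom)).map u) y)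
  have hopen : ∀ j, IsOpen {y | Q j y} := fun j => by
    haveI := isQCoh_pullback (D.map j.hom) M
    haveI := isQCoh_pullback (D.map j.hom) N
    exact isOpen_stalk_surjective _ (isFiniteType_pullback (D.map j.hom) N hN)
  have hmono : ∀ {j k : Over i₀} (f : k ⟶ j) (y : D.obj k.left),
      Q j (D.map f.left y) → Q k y := fun {j k} f y hy => by
    exact (stalk_conditions_comp u (D.map j.hom) (D.map f.left) _ (map_left_comp D i₀ f) y).2.1 hy
  have hpt : ∀ x : c.pt, ∃ j : Over i₀, Q j (c.π.app j.left x) := fun x => by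
    haveI := finite_stalk_of_isFT hN (c.π.app i₀ x)
    exact exists_stage_surjective D c hc i₀ x u ((epi_iff_stalk _).mp h x)
  obtain ⟨j, hj⟩ := exists_all_of_open D c hc i₀ Q hopen hmono hpt
  exact ⟨j.left, j.hom, (epi_iff_stalk _).mpr hj⟩

include hc in
/-- An isomorphism on the limit from finite type to finite presentation is one at a stage. -/
theorem isIso_eventually (hM : CohB1.IsFT M) (hN : CohB1.IsFP N) :
    IsIso ((Scheme.Modules.pullback (c.π.app i₀)).map u) ↔
      ∃ (j : I) (φ : j ⟶ i₀), IsIso ((Scheme.Modules.pullback (D.map φ)).map u) := by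
  refine ⟨fun h => ?_, fun ⟨j, φ, h⟩ => (pullback_map_stable u (D.map φ) (c.π.app j) _ (c.w φ)).2.2 h⟩
  let Q : ∀ j : Over i₀, D.obj j.left → Prop := fun j y =>
    Function.Bijective (stalkLin ((Scheme.Modules.pullback (D.map j.hom)).map u) y)
  have hopen : ∀ j, IsOpen {y | Q j y} := fun j => by
    haveI := isQCoh_pullback (D.map j.hom) M
    haveI := isQCoh_pullback (D.map j.hom) N
    exact isOpen_stalk_bijective _ (isFiniteType_pullback (D.map j.hom) M hM)
      (isFP_pullback (D.map j.hom) N hN)
  have hmono : ∀ {j k : Over i₀} (f : k ⟶ j) (y : D.obj k.left),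
      Q j (D.map f.left y) → Q k y := fun {j k} f y hy => by
    exact (stalk_conditions_comp u (D.map j.hom) (D.map f.left) _ (map_left_comp D i₀ f) y).2.2 hy
  have hpt : ∀ x : c.pt, ∃ j : Over i₀, Q j (c.π.app j.left x) := fun x => by
    haveI := finite_stalk_of_isFT hM (c.π.app i₀ x)
    haveI := finitePresentation_stalk_of_isFP hN (c.π.app i₀ x)
    exact exists_stage_bijective D c hc i₀ x u ((isIso_iff_stalk _).mp h x)
  obtain ⟨j, hj⟩ := exists_all_of_open D c hc i₀ Q hopen hmono hpt
  exact ⟨j.left, j.hom, (isIso_iff_stalk _).mpr hj⟩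

end Groth.Agent.PullbackMod
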