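import Groth.Agent.PullbackMod.Basic

/-!
# Sections of an inverse image over an affine open are a base change
-/

set_option autoImplicit false
set_option backward.isDefEq.respectTransparency false
set_option backward.defeqAttrib.useBackward true
set_option linter.style.haveILetI false

universe u

open CategoryTheory CategoryTheory.Limits AlgebraicGeometry TopologicalSpace Opposite
open Groth.Agent.CohBase Groth.Agent.QCohLib

namespace Groth.Agent.PullbackMod

variable {X X' : Scheme.{u}} (g : X' ⟶ X) (M : X.Modules) {W : X.Opens} {W' : X'.Opens}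

/-- The canonical map on sections, linear over `Γ(X, W)`. -/
noncomputable def pullMapL (e : W' ≤ g ⁻¹ᵁ W) :
    letI := Module.compHom Γ((Scheme.Modules.pullback g).obj M, W') (g.appLE W W' e).hom
    Γ(M, W) →ₗ[Γ(X, W)] Γ((Scheme.Modules.pullback g).obj M, W') :=
  letI := Module.compHom Γ((Scheme.Modules.pullback g).obj M, W') (g.appLE W W' e).hom
  { pullMap g M e with map_smul' := pullMap_smul g M e }

lemma toOpen_bijective {R : CommRingCat.{u}} (N : ModuleCat.{u} R) {V : (Spec R).Opens}
    (h : V = ⊤) : Function.Bijective (tilde.toOpen N V) := by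
  subst h
  exact ConcreteCategory.bijective_of_isIso _

lemma res_bijective {Y : Scheme.{u}} (T : Y.Modules) {V V' : Y.Opens} (h : V ≤ V') (h' : V' ≤ V) :
    Function.Bijective (T.presheaf.map (homOfLE h).op) :=
  Function.bijective_iff_has_inverse.mpr ⟨T.presheaf.map (homOfLE h').op,
    fun x => (restr_trans T h h' x).trans (restr_self T _ x),
    fun x => (restr_trans T h' h x).trans (restr_self T _ x)⟩

theorem isBaseChange_pullMapL [Coh.IsQCoh M] (hW : IsAffineOpen W) (hW' : IsAffineOpen W')
    (e : W' ≤ g ⁻¹ᵁ W) :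
    letI : Algebra Γ(X, W) Γ(X', W') := (g.appLE W W' e).hom.toAlgebra
    letI := Module.compHom Γ((Scheme.Modules.pullback g).obj M, W') (g.appLE W W' e).hom
    haveI : IsScalarTower Γ(X, W) Γ(X', W') Γ((Scheme.Modules.pullback g).obj M, W') :=
      .of_algebraMap_smul fun _ _ => rfl
    IsBaseChange Γ(X', W') (pullMapL g M e) := by
  let φ := g.appLE W W' e
  letI : Algebra Γ(X, W) Γ(X', W') := φ.hom.toAlgebra
  letI := Module.compHom Γ((Scheme.Modules.pullback g).obj M, W') φ.hom
  haveI : IsScalarTower Γ(X, W) Γ(X', W') Γ((Scheme.Modules.pullback g).obj M, W') :=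
    .of_algebraMap_smul fun _ _ => rfl
  show IsBaseChange Γ(X', W') (pullMapL g M e)
  refine IsBaseChange.of_lift_unique _ fun Q _ _ _ _ l => ?_
  letI : AddCommGroup Q := Module.addCommMonoidToAddCommGroup Γ(X', W')
  let gM := (Scheme.Modules.pullback g).obj M
  let i := hW.fromSpec
  let j := hW'.fromSpec
  let N : ModuleCat.{u} Γ(X', W') := ModuleCat.of Γ(X', W') Q
  let T : (Spec Γ(X', W')).Modules := (tilde.functor Γ(X', W')).obj N
  let S' := (Scheme.Modules.pushforward j).obj T
  let S := (Scheme.Modules.pushforward g).obj S'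
  have hcomp : j ≫ g = Spec.map φ ≫ i := (IsAffineOpen.SpecMap_appLE_fromSpec g hW hW' e).symm
  haveI : IsIso (gM.restrict hW'.fromSpec).fromTildeΓ :=
    isIso_fromTildeΓ_pullback_restrict g M hW hW' e
  haveI : IsIso (M.restrict hW.fromSpec).fromTildeΓ :=
    (isIso_fromTildeΓ_iff_isLocalizing _).mpr (isLocalizing_restrict M hW)
  have hD' : DetW gM W' S' := detW_pushforward_fromSpec hW' gM T
  have hD : DetW M W S :=
    (detW_pushforward_fromSpec hW M ((Scheme.Modules.pushforward (Spec.map φ)).obj T)).of_iso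
      ((Scheme.Modules.pushforwardComp (Spec.map φ) i).app T ≪≫
        ((Scheme.Modules.pushforwardCongr hcomp).app T).symm ≪≫
        ((Scheme.Modules.pushforwardComp j g).app T).symm)
  -- the sections of `S'` on `W'`
  have hj : j ⁻¹ᵁ W' = ⊤ := hW'.fromSpec_preimage_self
  let ι : Q → Γ(S', W') := fun q => tilde.toOpen N (j ⁻¹ᵁ W') q
  have hι : Function.Bijective ι := toOpen_bijective N hj
  have hιadd : ∀ p q, ι (p + q) = ι p + ι q := fun p q =>
    map_add (tilde.toOpen N (j ⁻¹ᵁ W')).hom p q
  have hιs : ∀ (b : Γ(X', W')) q, ι (b • q) = b • ι q := fun b q => by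
    refine (map_smul (tilde.toOpen N (j ⁻¹ᵁ W')).hom b q).trans ?_
    have hb : j.app W' b = algebraMap Γ(X', W') Γ(Spec Γ(X', W'), j ⁻¹ᵁ W') b := by
      rw [hW'.fromSpec_app_self]
      rfl
    show b • (show Γ(T, j ⁻¹ᵁ W') from tilde.toOpen N (j ⁻¹ᵁ W') q) =
      j.app W' b • (show Γ(T, j ⁻¹ᵁ W') from ι q)
    rw [hb]
    exact (algebraMap_smul Γ(Spec Γ(X', W'), j ⁻¹ᵁ W') b _).symm
  let eι : Q ≃ₗ[Γ(X', W')] Γ(S', W') :=
    LinearEquiv.ofBijective { toFun := ι, map_add' := hιadd, map_smul' := hιs } hι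
  -- the restriction `g ⁻¹ W → W'`
  let r : Γ(S, W) → Γ(S', W') := S'.presheaf.map (homOfLE e).op
  have hr : Function.Bijective r := by
    refine res_bijective T (j.preimage_mono e) ?_
    rw [hj]
    exact le_top
  have hrs : ∀ (a : Γ(X, W)) (y : Γ(S, W)), r (a • y) = φ a • r y := fun a y =>
    S'.val.map_smul (homOfLE e).op (g.app W a) y
  have hradd : ∀ y z, r (y + z) = r y + r z := fun y z => map_add _ y z
  let er : Γ(S, W) ≃ Γ(S', W') := Equiv.ofBijective r hr
  let l0 : Γ(M, W) →ₗ[Γ(X, W)] Γ(S, W) :=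
    { toFun := fun m => er.symm (eι (l m))
      map_add' := fun a b => hr.1 (by
        rw [hradd]
        show er (er.symm _) = er (er.symm _) + er (er.symm _)
        rw [Equiv.apply_symm_apply, Equiv.apply_symm_apply, Equiv.apply_symm_apply, map_add,
          map_add])
      map_smul' := fun a m => hr.1 (by
        rw [RingHom.id_apply, hrs]
        show er (er.symm _) = φ a • er (er.symm _)
        rw [Equiv.apply_symm_apply, Equiv.apply_symm_apply, ← map_smul, map_smul l,
          ← algebraMap_smul Γ(X', W') a (l m)]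
        rfl) }
  obtain ⟨ψ0, hψ0⟩ := hD.2 l0
  let adj := Scheme.Modules.pullbackPushforwardAdjunction g
  have key : ∀ (Ψ : gM ⟶ S') (m : Γ(M, W)),
      appLin Ψ W' (pullMapL g M e m) = r ((adj.homEquiv M S' Ψ).app W m) := by
    intro Ψ m
    rw [Adjunction.homEquiv_unit]
    exact congr($(Ψ.mapPresheaf.naturality (homOfLE e).op) ((adj.unit.app M).app W m))
  refine ⟨eι.symm.toLinearMap.comp (appLin ((adj.homEquiv M S').symm ψ0) W'), ?_, ?_⟩
  · refine LinearMap.ext fun m => eι.injective ?_
    show eι (eι.symm (appLin ((adj.homEquiv M S').symm ψ0) W' (pullMapL g M e m))) = eι (l m)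
    rw [LinearEquiv.apply_symm_apply, key, Equiv.apply_symm_apply]
    show r (appLin ψ0 W m) = _
    rw [LinearMap.congr_fun hψ0 m]
    exact er.apply_symm_apply _
  · intro g'' hg''
    obtain ⟨Ψ, hΨ⟩ := hD'.2 (eι.toLinearMap.comp g'')
    have h0 : adj.homEquiv M S' Ψ = ψ0 := hD.1 (LinearMap.ext fun m => hr.1 (by
      show r ((adj.homEquiv M S' Ψ).app W m) = r (appLin ψ0 W m)
      rw [← key, LinearMap.congr_fun hΨ, LinearMap.congr_fun hψ0 m]
      show eι (g'' (pullMapL g M e m)) = er (er.symm _)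
      rw [Equiv.apply_symm_apply]
      exact congrArg eι (LinearMap.congr_fun hg'' m)))
    refine LinearMap.ext fun x => eι.injective ?_
    show eι (g'' x) = eι (eι.symm (appLin ((adj.homEquiv M S').symm ψ0) W' x))
    rw [LinearEquiv.apply_symm_apply, ← h0, Equiv.symm_apply_apply]
    exact (LinearMap.congr_fun hΨ x).symm

/-- Modules which are tildes on an affine open cover are quasi-coherent. -/
theorem isQCoh_of_isIso_fromTildeΓ (N : X.Modules) {ι : Type u} (U : ι → X.Opens)
    (hU : ∀ a, IsAffineOpen (U a)) (hcov : ⨆ a, U a = ⊤)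
    (hiso : ∀ a, IsIso (N.restrict (hU a).fromSpec).fromTildeΓ) : Coh.IsQCoh N := by
  let P : ∀ a, (N.restrict (U a).ι).Presentation := fun a =>
    SheafOfModules.Presentation.ofIsIso.{u, u, u}
      (((Scheme.Modules.restrictFunctorComp (hU a).isoSpec.hom (hU a).fromSpec).symm ≪≫
        Scheme.Modules.restrictFunctorCongr (hU a).isoSpec_hom_fromSpec).app N).hom
      (Scheme.Modules.presentationRestrict (hU a).isoSpec.hom
        (SheafOfModules.Presentation.ofIsIso.{u, u, u}
          (@asIso _ _ _ _ (Scheme.Modules.fromTildeΓ (N.restrict (hU a).fromSpec)) (hiso a)).hom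
          (presentationTilde.{u} _ .univ (by simp) _ (Submodule.span_eq _))))
  exact SheafOfModules.QuasicoherentData.isQuasicoherent (R := X.ringCatSheaf) (M := N)
    { I := ι
      X := U
      coversTop := by
        rw [Opens.coversTop_iff, IsOpenCover]
        exact hcov
      presentation := fun a => presentationOver N (U a) (P a) }

theorem exists_affine_pair (x' : X') :
    ∃ (W : X.Opens) (W' : X'.Opens), IsAffineOpen W ∧ IsAffineOpen W' ∧ x' ∈ W' ∧
      W' ≤ g ⁻¹ᵁ W := by
  obtain ⟨_, ⟨W : X.Opens, (hW : IsAffineOpen W), rfl⟩, hxW, -⟩ :=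
    X.isBasis_affineOpens.exists_subset_of_mem_open (Set.mem_univ (g x')) isOpen_univ
  obtain ⟨_, ⟨W' : X'.Opens, (hW' : IsAffineOpen W'), rfl⟩, hxW', hle⟩ :=
    X'.isBasis_affineOpens.exists_subset_of_mem_open (a := x') (u := ↑(g ⁻¹ᵁ W)) hxW (g ⁻¹ᵁ W).2
  exact ⟨W, W', hW, hW', hxW', hle⟩

/-- The inverse image of a quasi-coherent module is quasi-coherent. -/
theorem isQCoh_pullback [Coh.IsQCoh M] : Coh.IsQCoh ((Scheme.Modules.pullback g).obj M) := by
  choose W W' hW hW' hx hle using exists_affine_pair g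
  exact isQCoh_of_isIso_fromTildeΓ _ W' hW' (eq_top_iff.mpr fun x _ => Opens.mem_iSup.mpr ⟨x, hx x⟩)
    fun x => isIso_fromTildeΓ_pullback_restrict g M (hW x) (hW' x) (hle x)

end Groth.Agent.PullbackMod
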