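import Groth.Agent.PullbackMod.Hom
import Groth.Agent.PullbackMod.Flat
import Groth.Agent.PullbackMod.FibreLocus
import Groth.Prelude.Def_FlatFun

/-!
# Subfunctors of the point cut out by properties descending pointwise are fpqc sheaves
-/

set_option autoImplicit false
set_option backward.isDefEq.respectTransparency false
set_option backward.defeqAttrib.useBackward true
set_option linter.style.haveILetI false

universe u

open CategoryTheory CategoryTheory.Limits AlgebraicGeometry TopologicalSpace Opposite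

namespace Groth.Agent.PullbackMod

/-- Sieves containing a flat map through every point. -/
def flatPointTopology : GrothendieckTopology Scheme.{u} where
  sieves T := {R | ∀ t : T, ∃ (T' : Scheme.{u}) (g : T' ⟶ T), R g ∧ Flat g ∧ t ∈ Set.range g}
  top_mem' T t := ⟨T, 𝟙 T, trivial, inferInstance, t, rfl⟩
  pullback_stable' T T₁ R f hR t₁ := by
    obtain ⟨T', g, hg, hflat, t', ht'⟩ := hR (f t₁)
    obtain ⟨p, hp₁, hp₂⟩ := Scheme.Pullback.exists_preimage_pullback (f := g) (g := f) t' t₁ ht'
    refine ⟨pullback g f, pullback.snd g f, ?_, MorphismProperty.pullback_snd _ _ hflat, p, hp₂⟩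
    show R (pullback.snd g f ≫ f)
    rw [← pullback.condition]
    exact R.downward_closed hg _
  transitive' T R hR S hS t := by
    obtain ⟨T', g, hg, hflat, t', rfl⟩ := hR t
    obtain ⟨T'', h, hh, hflat', t'', rfl⟩ := hS hg t'
    exact ⟨T'', h ≫ g, hh, inferInstance, t'', by rw [Scheme.Hom.comp_apply]⟩

theorem fpqc_le_flatPoint : Scheme.fpqcPrecoverage.toGrothendieck ≤ flatPointTopology.{u} := by
  rw [Precoverage.toGrothendieck_le_iff_le_toPrecoverage]
  intro T R hR
  obtain ⟨ι, Y, f, rfl⟩ := Presieve.exists_eq_ofArrows R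
  obtain ⟨h1, h2⟩ := Scheme.ofArrows_mem_precoverage_iff _ |>.mp
    (Scheme.propQCPrecoverage_le_precoverage _ hR)
  intro t
  obtain ⟨i, hi⟩ := h1 t
  exact ⟨Y i, f i, ⟨Y i, 𝟙 _, f i, ⟨i⟩, Category.id_comp _⟩, h2 i, hi⟩

variable {S : Scheme.{u}}

/-- A stable condition which descends along flat maps pointwise cuts out an fpqc sheaf. -/
theorem isSheaf_genPSp (P : Over S → Prop) (hst : ∀ ⦃T T₀ : Over S⦄ (_ : T ⟶ T₀), P T₀ → P T)
    (hdesc : ∀ T : Over S, (∀ t : T.left, ∃ (T' : Over S) (g : T' ⟶ T),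
      Flat g.left ∧ t ∈ Set.range g.left ∧ P T') → P T) :
    Presheaf.IsSheaf (QuotSh.J Scheme.fpqcPrecoverage S) (FlatFun.genPSp S P) := by
  rw [CategoryTheory.isSheaf_iff_isSheaf_of_type]
  intro T R hR x _
  have hT : P T := by
    refine hdesc T fun t => ?_
    obtain ⟨T', g, hg, hflat, ht⟩ := fpqc_le_flatPoint _ (GrothendieckTopology.mem_over_iff _ _ |>.mp hR) t
    rw [Sieve.overEquiv_iff] at hg
    refine ⟨Over.mk (g ≫ T.hom), Over.homMk g rfl, hflat, ht, ?_⟩
    exact (FlatFun.genPSp_nonempty_iff_of_stable P hst _).mp ⟨x _ hg⟩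
  obtain ⟨a⟩ := FlatFun.genPSp_nonempty_of P hT
  exact ⟨a, fun _ _ _ => Subsingleton.elim _ _, fun _ _ => Subsingleton.elim _ _⟩

variable {X : Scheme.{u}} (f : X ⟶ S)

theorem isPullback_XTmap {T T' : Over S} (g : T' ⟶ T) :
    IsPullback (PicF.XTmap f g) (pullback.snd f T'.hom) (pullback.snd f T.hom) g.left := by
  refine IsPullback.of_right (h₁₂ := pullback.fst f T.hom) (v₁₃ := f) (h₂₂ := T.hom) ?_ ?_
    (IsPullback.of_hasPullback f T.hom)
  · rw [FGA.XTmap_fst, Over.w g]
    exact IsPullback.of_hasPullback f T'.hom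
  · exact pullback.lift_snd _ _ _

theorem flat_XTmap {T T' : Over S} (g : T' ⟶ T) [Flat g.left] : Flat (PicF.XTmap f g) :=
  MorphismProperty.of_isPullback (P := @Flat) (isPullback_XTmap f g).flip ‹_›

theorem exists_point_XT (T : Over S) (x : ↑(pullback f T.hom)) {T' : Over S} (g : T' ⟶ T)
    (h : pullback.snd f T.hom x ∈ Set.range g.left) :
    ∃ x' : ↑(pullback f T'.hom), PicF.XTmap f g x' = x := by
  obtain ⟨t', ht'⟩ := h
  obtain ⟨p, hp₁, -⟩ := Scheme.Pullback.exists_preimage_pullback (f := pullback.snd f T.hom)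
    (g := g.left) x t' ht'.symm
  refine ⟨(isPullback_XTmap f g).isoPullback.inv p, ?_⟩
  rw [← Scheme.Hom.comp_apply, IsPullback.isoPullback_inv_fst]
  exact hp₁

variable {F G : X.Modules} (u : F ⟶ G)

/-- The base change of a map of modules to `X_T`. -/
noncomputable abbrev mapT (T : Over S) :=
  (Scheme.Modules.pullback (pullback.fst f T.hom)).map u

theorem exists_mapT_conj {T T' : Over S} (g : T' ⟶ T) :
    ∃ (a : (Scheme.Modules.pullback (pullback.fst f T'.hom)).obj F ≅
        (Scheme.Modules.pullback (PicF.XTmap f g)).obj ((Scheme.Modules.pullback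
          (pullback.fst f T.hom)).obj F))
      (b : (Scheme.Modules.pullback (PicF.XTmap f g)).obj ((Scheme.Modules.pullback
          (pullback.fst f T.hom)).obj G) ≅ (Scheme.Modules.pullback (pullback.fst f T'.hom)).obj G),
      mapT f u T' = a.hom ≫ (Scheme.Modules.pullback (PicF.XTmap f g)).map (mapT f u T) ≫ b.hom := by
  let e := Scheme.Modules.pullbackComp (PicF.XTmap f g) (pullback.fst f T.hom) ≪≫
    Scheme.Modules.pullbackCongr (FGA.XTmap_fst f g)
  refine ⟨(e.app F).symm, e.app G, ?_⟩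
  rw [Iso.symm_hom, Iso.eq_inv_comp]
  exact (e.hom.naturality u).symm

theorem isIso_mapT_stable {T T₀ : Over S} (g : T ⟶ T₀) (h : IsIso (mapT f u T₀)) :
    IsIso (mapT f u T) := by
  obtain ⟨a, b, e⟩ := exists_mapT_conj f u g
  rw [e]
  infer_instance

theorem epi_mapT_stable {T T₀ : Over S} (g : T ⟶ T₀) (h : Epi (mapT f u T₀)) :
    Epi (mapT f u T) := by
  obtain ⟨a, b, e⟩ := exists_mapT_conj f u g
  rw [e]
  infer_instance

theorem zero_mapT_stable {T T₀ : Over S} (g : T ⟶ T₀) (h : mapT f u T₀ = 0) :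
    mapT f u T = 0 := by
  obtain ⟨a, b, e⟩ := exists_mapT_conj f u g
  rw [e, h, Functor.map_zero, zero_comp, comp_zero]

/-- Stalk properties of `u_T` descend along flat maps. -/
theorem stalk_desc {T T' : Over S} (g : T' ⟶ T) [Flat g.left] (x' : ↑(pullback f T'.hom)) :
    (Function.Injective (stalkLin (mapT f u T') x') ↔
        Function.Injective (stalkLin (mapT f u T) (PicF.XTmap f g x'))) ∧
      (Function.Surjective (stalkLin (mapT f u T') x') ↔
        Function.Surjective (stalkLin (mapT f u T) (PicF.XTmap f g x'))) ∧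
      (stalkLin (mapT f u T') x' = 0 ↔ stalkLin (mapT f u T) (PicF.XTmap f g x') = 0) := by
  haveI := flat_XTmap f g
  let q := PicF.XTmap f g
  letI := (q.stalkMap x').hom.toAlgebra
  haveI := faithfullyFlat_stalk q x'
  obtain ⟨a, b, e⟩ := exists_mapT_conj f u g
  have ha : Function.Bijective (stalkLin a.hom x') := (isIso_iff_stalk a.hom).mp inferInstance x'
  have hb : Function.Bijective (stalkLin b.hom x') := (isIso_iff_stalk b.hom).mp inferInstance x'
  rw [e, stalkLin_comp, stalkLin_comp]
  refine ⟨?_, ?_, ?_⟩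
  · rw [LinearMap.coe_comp, LinearMap.coe_comp, Function.Injective.of_comp_iff' _ ha,
      hb.1.of_comp_iff, injective_stalk_pullback_iff, Module.FaithfullyFlat.lTensor_injective_iff_injective]
  · rw [LinearMap.coe_comp, LinearMap.coe_comp, Function.Surjective.of_comp_iff _ ha.2,
      Function.Surjective.of_comp_iff' hb, surjective_stalk_pullback_iff,
      Module.FaithfullyFlat.lTensor_surjective_iff_surjective]
  · refine Iff.trans ?_ ((stalk_pullback_eq_zero_iff q (mapT f u T) x').trans
      (Module.FaithfullyFlat.zero_iff_lTensor_zero _ _ _).symm)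
    refine ⟨fun h => LinearMap.ext fun z => hb.1 ?_, fun h => by rw [h]; simp⟩
    obtain ⟨w, rfl⟩ := ha.2 z
    exact (LinearMap.congr_fun h w).trans (map_zero _).symm

end Groth.Agent.PullbackMod
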