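import Groth.Agent.PullbackMod.LimEventually
import Groth.Agent.PullbackMod.GenPSp

/-!
# Conditions on a map of modules after base change define limit preserving subfunctors
-/

set_option autoImplicit false
set_option backward.isDefEq.respectTransparency false
set_option backward.defeqAttrib.useBackward true
set_option linter.style.haveILetI false

universe u

open CategoryTheory CategoryTheory.Limits AlgebraicGeometry TopologicalSpace Opposite

namespace Groth.Agent.PullbackMod

variable {S : Scheme.{u}}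

/-- A stable condition which holds at a stage whenever it holds on the limit preserves limits. -/
theorem isLimitPreserving_genPSp (P : Over S → Prop)
    (hst : ∀ ⦃T T₀ : Over S⦄ (_ : T ⟶ T₀), P T₀ → P T)
    (hev : ∀ ⦃I : Type u⦄ [SmallCategory I] [IsCofiltered I] (D : I ⥤ Over S) (c : Cone D),
      IsLimit ((Over.forget S).mapCone c) → (∀ i, IsAffine (D.obj i).left) →
        P c.pt → ∃ i, P (D.obj i)) :
    AlgSp.IsLimitPreserving (FlatFun.genPSp S P) := by
  intro I _ _ D c hc hD _
  have hss : ∀ T, Subsingleton ((FlatFun.genPSp S P).obj T) := fun T => inferInstance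
  refine ⟨Types.FilteredColimit.isColimitOf _ _ (fun x => ?_) fun i j xi xj _ =>
    ⟨IsFiltered.max i j, IsFiltered.leftToMax i j, IsFiltered.rightToMax i j, (hss _).elim _ _⟩⟩
  obtain ⟨i, hi⟩ := hev D c hc hD ((FlatFun.genPSp_nonempty_iff_of_stable P hst c.pt).mp ⟨x⟩)
  obtain ⟨y⟩ := FlatFun.genPSp_nonempty_of P hi
  exact ⟨op i, y, (hss _).elim _ _⟩

variable {X : Scheme.{u}} (f : X ⟶ S) [QuasiCompact f] {F G : X.Modules} (u : F ⟶ G)
  (Pr : ∀ {Y : Scheme.{u}} {M N : Y.Modules}, (M ⟶ N) → Prop)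
  (hconj : ∀ {Y : Scheme.{u}} {M M' N N' : Y.Modules} (a : M' ≅ M) (φ : M ⟶ N) (b : N ≅ N'),
    Pr (a.hom ≫ φ ≫ b.hom) ↔ Pr φ)
  (hpull : ∀ {Y Y' : Scheme.{u}} (g : Y' ⟶ Y) {M N : Y.Modules} (φ : M ⟶ N),
    Pr φ → Pr ((Scheme.Modules.pullback g).map φ))

include hconj hpull in
/-- Limit preservation for the locus where `u_T` satisfies a condition on maps of modules. -/
theorem isLimitPreserving_mapT
    (hev : ∀ {J : Type u} [SmallCategory J] [IsCofiltered J] (E : J ⥤ Scheme.{u}) (e : Cone E),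
      IsLimit e → (∀ {i j : J} (φ : i ⟶ j), IsAffineHom (E.map φ)) → ∀ (i₀ : J),
        CompactSpace (E.obj i₀) → ∀ g : E.obj i₀ ⟶ X,
        Pr ((Scheme.Modules.pullback (e.π.app i₀)).map ((Scheme.Modules.pullback g).map u)) →
          ∃ (j : J) (φ : j ⟶ i₀),
            Pr ((Scheme.Modules.pullback (E.map φ)).map ((Scheme.Modules.pullback g).map u))) :
    AlgSp.IsLimitPreserving (FlatFun.genPSp S fun T => Pr (mapT f u T)) := by
  have hcomp : ∀ {Y Y' : Scheme.{u}} (g : Y ⟶ X) (g' : Y' ⟶ Y) (k : Y' ⟶ X), g' ≫ g = k →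
      (Pr ((Scheme.Modules.pullback k).map u) ↔
        Pr ((Scheme.Modules.pullback g').map ((Scheme.Modules.pullback g).map u))) := by
    intro Y Y' g g' k e
    obtain ⟨a, b, h⟩ := exists_map_comp_conj u g g' k e
    rw [h, hconj]
  have hle : ∀ {Y Y' : Scheme.{u}} (g : Y ⟶ X) (g' : Y' ⟶ Y) (k : Y' ⟶ X), g' ≫ g = k →
      Pr ((Scheme.Modules.pullback g).map u) → Pr ((Scheme.Modules.pullback k).map u) :=
    fun g g' k e h => (hcomp g g' k e).mpr (hpull g' _ h)
  refine isLimitPreserving_genPSp _ (fun T T₀ g h => ?_) fun I _ _ D c hc hD hP => ?_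
  · obtain ⟨a, b, e⟩ := exists_mapT_conj f u g
    rw [e]
    exact (hconj a _ b).mpr (hpull _ _ h)
  · obtain ⟨i₀⟩ := IsCofiltered.nonempty (C := I)
    let D' := D ⋙ Over.forget S
    let c' : Cone D' := (Over.forget S).mapCone c
    haveI hD' : ∀ {i j : I} (φ : i ⟶ j), IsAffineHom (D'.map φ) := fun {i j} φ => by
      haveI : IsAffine (D'.obj i) := hD i
      haveI : IsAffine (D'.obj j) := hD j
      infer_instance
    let a : pullback f (D.obj i₀).hom ⟶ D'.obj i₀ := pullback.snd f (D.obj i₀).hom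
    let E := AffLim.baseChange D' i₀ a
    let e : Cone E := AffLim.baseChangeCone D' c' i₀ a
    let i₁ : Over i₀ := Over.mk (𝟙 i₀)
    let g : E.obj i₁ ⟶ X := pullback.fst a (D'.map i₁.hom) ≫ pullback.fst f (D.obj i₀).hom
    haveI : CompactSpace ↥(pullback f (D.obj i₀).hom) :=
      haveI : IsAffine (D.obj i₀).left := hD i₀
      QuasiCompact.compactSpace_of_compactSpace (pullback.snd f (D.obj i₀).hom)
    have hlim : Pr ((Scheme.Modules.pullback (e.π.app i₁)).map
        ((Scheme.Modules.pullback g).map u)) := by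
      let w : e.pt ⟶ pullback f c.pt.hom :=
        pullback.lift (pullback.fst a (c'.π.app i₀) ≫ pullback.fst f (D.obj i₀).hom)
          (pullback.snd a (c'.π.app i₀)) (by
            rw [Category.assoc, pullback.condition, ← Category.assoc, pullback.condition,
              Category.assoc]
            exact congrArg _ (Over.w (c.π.app i₀)))
      refine (hcomp g (e.π.app i₁) (w ≫ pullback.fst f c.pt.hom) ?_).mp
        (hle _ w _ rfl hP)
      simp [g, w, e]
    obtain ⟨j, φ, hj⟩ := hev E e (AffLim.nonempty_isLimit_baseChangeCone D' c' hc i₀ a).some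
      (fun φ => AffLim.isAffineHom_baseChange_map D' i₀ a φ) i₁
      (AffLim.compactSpace_baseChange D' i₀ a i₁) g hlim
    refine ⟨j.left, ?_⟩
    let v : pullback f (D.obj j.left).hom ⟶ E.obj j :=
      pullback.lift (PicF.XTmap f (D.map j.hom)) (pullback.snd f (D.obj j.left).hom) (by
        exact (isPullback_XTmap f (D.map j.hom)).w)
    refine hle (E.map φ ≫ g) v _ ?_ ((hcomp g (E.map φ) _ rfl).mpr hj)
    simp [E, g, v, ← FGA.XTmap_fst f (D.map j.hom)]

end Groth.Agent.PullbackMod
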