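import Mathlib

/-!
# Tensor products with a filtered union of algebras
-/

set_option autoImplicit false
set_option backward.isDefEq.respectTransparency false
set_option backward.defeqAttrib.useBackward true
set_option linter.style.haveILetI false

universe u

open scoped TensorProduct

namespace Groth.Agent.PullbackMod

/-- A directed system of algebras exhausting `B`. -/
structure AlgSystem (A : Type u) [CommRing A] (B : Type u) [CommRing B] [Algebra A B] where
  J : Type u
  R : J → Type u
  [ring : ∀ j, CommRing (R j)]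
  [alg : ∀ j, Algebra A (R j)]
  ρ : ∀ j, R j →ₐ[A] B
  Hom : J → J → Type u
  τ : ∀ {j k}, Hom j k → R j →ₐ[A] R k
  comm : ∀ {j k} (f : Hom j k), (ρ k).comp (τ f) = ρ j
  comp : ∀ {j k l} (f : Hom j k) (g : Hom k l), ∃ h : Hom j l, τ h = (τ g).comp (τ f)
  surj : ∀ (j) (b : B), ∃ (k : J) (_ : Hom j k) (a : R k), ρ k a = b
  inj : ∀ (j) (a : R j), ρ j a = 0 → ∃ (k : J) (f : Hom j k), τ f a = 0

namespace AlgSystem

attribute [instance] AlgSystem.ring AlgSystem.alg

variable {A : Type u} [CommRing A] {B : Type u} [CommRing B] [Algebra A B] (S : AlgSystem A B)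
variable {M N : Type u} [AddCommGroup M] [Module A M] [AddCommGroup N] [Module A N]

lemma refine_zero {j k l : S.J} (f : S.Hom j k) (g : S.Hom k l) (a : S.R j ⊗[A] M)
    (h : S.Hom j l) (hh : S.τ h = (S.τ g).comp (S.τ f)) :
    (S.τ h).toLinearMap.rTensor M a =
      (S.τ g).toLinearMap.rTensor M ((S.τ f).toLinearMap.rTensor M a) := by
  rw [hh, AlgHom.comp_toLinearMap, LinearMap.rTensor_comp]
  rfl

lemma rho_tau {j k : S.J} (f : S.Hom j k) (a : S.R j ⊗[A] M) :
    (S.ρ k).toLinearMap.rTensor M ((S.τ f).toLinearMap.rTensor M a) =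
      (S.ρ j).toLinearMap.rTensor M a := by
  rw [← LinearMap.rTensor_comp_apply, ← AlgHom.comp_toLinearMap, S.comm]

theorem exists_lift (j : S.J) (t : B ⊗[A] M) :
    ∃ (k : S.J) (_ : S.Hom j k) (a : S.R k ⊗[A] M), (S.ρ k).toLinearMap.rTensor M a = t := by
  induction t generalizing j with
  | zero =>
    obtain ⟨k, f, -, -⟩ := S.surj j 0
    exact ⟨k, f, 0, map_zero _⟩
  | tmul b m =>
    obtain ⟨k, f, a, rfl⟩ := S.surj j b
    exact ⟨k, f, a ⊗ₜ m, rfl⟩
  | add x y hx hy =>
    obtain ⟨k, f, a, rfl⟩ := hx j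
    obtain ⟨l, g, b, rfl⟩ := hy k
    obtain ⟨h, -⟩ := S.comp f g
    exact ⟨l, h, (S.τ g).toLinearMap.rTensor M a + b, by rw [map_add, rho_tau]⟩

theorem exists_zero_free {ι : Type u} (j : S.J) (d : S.R j ⊗[A] (ι →₀ A))
    (h : (S.ρ j).toLinearMap.rTensor (ι →₀ A) d = 0) :
    ∃ (k : S.J) (f : S.Hom j k), (S.τ f).toLinearMap.rTensor (ι →₀ A) d = 0 := by
  classical
  have key : ∀ {C D : Type u} [CommRing C] [Algebra A C] [CommRing D] [Algebra A D] (φ : C →ₐ[A] D)
      (z : C ⊗[A] (ι →₀ A)) (i : ι),
      TensorProduct.finsuppScalarRight A A D ι (φ.toLinearMap.rTensor _ z) i =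
        φ (TensorProduct.finsuppScalarRight A A C ι z i) := by
    intro C D _ _ _ _ φ z i
    induction z with
    | zero => simp
    | add x y hx hy => simp only [map_add, Finsupp.add_apply, hx, hy]
    | tmul c g => simp [TensorProduct.finsuppScalarRight_apply_tmul_apply]
  let c := TensorProduct.finsuppScalarRight A A (S.R j) ι d
  have hc : ∀ i, S.ρ j (c i) = 0 := fun i => by
    rw [← key, h, map_zero, Finsupp.zero_apply]
  have main : ∀ s : Finset ι, ∃ (k : S.J) (f : S.Hom j k), ∀ i ∈ s, S.τ f (c i) = 0 := by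
    intro s
    induction s using Finset.induction with
    | empty =>
      obtain ⟨k, f, -, -⟩ := S.surj j 0
      exact ⟨k, f, by simp⟩
    | insert a s _ ih =>
      obtain ⟨k, f, hf⟩ := ih
      obtain ⟨l, g, hg⟩ := S.inj k (S.τ f (c a))
        ((congr($(S.comm f) (c a))).trans (hc a))
      obtain ⟨e, he⟩ := S.comp f g
      refine ⟨l, e, fun i hi => ?_⟩
      rw [he, AlgHom.comp_apply]
      obtain rfl | hi := Finset.mem_insert.mp hi
      · exact hg
      · rw [hf i hi, map_zero]
  obtain ⟨k, f, hf⟩ := main c.support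
  refine ⟨k, f, (TensorProduct.finsuppScalarRight A A (S.R k) ι).injective ?_⟩
  ext i
  rw [key, map_zero, Finsupp.zero_apply]
  by_cases hi : i ∈ c.support
  · exact hf i hi
  · rw [show TensorProduct.finsuppScalarRight A A (S.R j) ι d i = 0 from
      Finsupp.notMem_support_iff.mp hi, map_zero]

theorem exists_zero (j : S.J) (z : S.R j ⊗[A] M) (h : (S.ρ j).toLinearMap.rTensor M z = 0) :
    ∃ (k : S.J) (f : S.Hom j k), (S.τ f).toLinearMap.rTensor M z = 0 := by
  let π : (M →₀ A) →ₗ[A] M := Finsupp.linearCombination A id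
  have hπ : Function.Surjective π := Finsupp.linearCombination_surjective A Function.surjective_id
  obtain ⟨w, rfl⟩ := LinearMap.lTensor_surjective (S.R j) hπ z
  have hsq : ∀ {C D : Type u} [CommRing C] [Algebra A C] [CommRing D] [Algebra A D] (φ : C →ₐ[A] D)
      (y : C ⊗[A] (M →₀ A)),
      φ.toLinearMap.rTensor M (π.lTensor C y) = π.lTensor D (φ.toLinearMap.rTensor _ y) := by
    intro C D _ _ _ _ φ y
    induction y with
    | zero => simp
    | add x y hx hy => simp only [map_add, hx, hy]
    | tmul c g => simp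
  rw [hsq] at h
  have hex : Function.Exact (LinearMap.ker π).subtype π := LinearMap.exact_subtype_ker_map π
  have he : Function.Exact ((LinearMap.ker π).subtype.lTensor B) (π.lTensor B) :=
    lTensor_exact (M := LinearMap.ker π) B hex hπ
  obtain ⟨t, ht⟩ := (he _).mp h
  obtain ⟨k, f, a, rfl⟩ := S.exists_lift (M := LinearMap.ker π) j t
  let d := (S.τ f).toLinearMap.rTensor (M →₀ A) w - (LinearMap.ker π).subtype.lTensor (S.R k) a
  have hd : (S.ρ k).toLinearMap.rTensor (M →₀ A) d = 0 := by
    rw [map_sub, rho_tau, sub_eq_zero]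
    refine ht.symm.trans ?_
    rw [← LinearMap.comp_apply, LinearMap.lTensor_comp_rTensor, ← LinearMap.rTensor_comp_lTensor]
    rfl
  obtain ⟨l, g, hg⟩ := S.exists_zero_free k d hd
  obtain ⟨e, he⟩ := S.comp f g
  refine ⟨l, e, ?_⟩
  rw [hsq, S.refine_zero f g w e he]
  rw [map_sub, sub_eq_zero] at hg
  rw [hg, ← LinearMap.comp_apply (LinearMap.rTensor _ _), LinearMap.rTensor_comp_lTensor,
    ← LinearMap.lTensor_comp_rTensor, LinearMap.comp_apply, ← LinearMap.lTensor_comp_apply,
    π.exact_subtype_ker_map.linearMap_comp_eq_zero, LinearMap.lTensor_zero, LinearMap.zero_apply]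

theorem exists_zero_finset (j : S.J) (s : Finset (S.R j ⊗[A] M))
    (h : ∀ z ∈ s, (S.ρ j).toLinearMap.rTensor M z = 0) :
    ∃ (k : S.J) (f : S.Hom j k), ∀ z ∈ s, (S.τ f).toLinearMap.rTensor M z = 0 := by
  classical
  induction s using Finset.induction with
  | empty =>
    obtain ⟨k, f, -, -⟩ := S.surj j 0
    exact ⟨k, f, by simp⟩
  | insert a s _ ih =>
    obtain ⟨k, f, hf⟩ := ih fun z hz => h z (Finset.mem_insert_of_mem hz)
    obtain ⟨l, g, hg⟩ := S.exists_zero k ((S.τ f).toLinearMap.rTensor M a)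
      ((S.rho_tau f a).trans (h a (Finset.mem_insert_self _ _)))
    obtain ⟨e, he⟩ := S.comp f g
    refine ⟨l, e, fun z hz => ?_⟩
    rw [S.refine_zero f g z e he]
    obtain rfl | hz := Finset.mem_insert.mp hz
    · exact hg
    · rw [hf z hz, map_zero]

lemma natural {C D : Type u} [CommRing C] [Algebra A C] [CommRing D] [Algebra A D]
    (φ : C →ₐ[A] D) (u : M →ₗ[A] N) (y : C ⊗[A] M) :
    φ.toLinearMap.rTensor N (u.lTensor C y) = u.lTensor D (φ.toLinearMap.rTensor M y) := by
  rw [← LinearMap.comp_apply, LinearMap.rTensor_comp_lTensor, ← LinearMap.lTensor_comp_rTensor]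
  rfl

/-- A map from a finite module which vanishes over `B` vanishes at some stage. -/
theorem exists_lTensor_eq_zero [Module.Finite A M] (j : S.J) (u : M →ₗ[A] N)
    (h : u.lTensor B = 0) : ∃ (k : S.J) (_ : S.Hom j k), u.lTensor (S.R k) = 0 := by
  classical
  obtain ⟨s, hs⟩ := Module.Finite.fg_top (R := A) (M := M)
  obtain ⟨k, f, hf⟩ := S.exists_zero_finset j (s.image fun m => (1 : S.R j) ⊗ₜ[A] u m) fun z hz => by
    obtain ⟨m, -, rfl⟩ := Finset.mem_image.mp hz
    have := LinearMap.congr_fun h ((1 : B) ⊗ₜ[A] m)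
    simpa using this
  refine ⟨k, f, ?_⟩
  have h0 : ∀ m, (1 : S.R k) ⊗ₜ[A] u m = 0 := by
    intro m
    have hm : m ∈ Submodule.span A (s : Set M) := by rw [hs]; trivial
    induction hm using Submodule.span_induction with
    | mem m hm => simpa using hf _ (Finset.mem_image_of_mem _ hm)
    | zero => simp
    | add a b _ _ ha hb => rw [map_add, TensorProduct.tmul_add, ha, hb, add_zero]
    | smul c a _ ha => rw [map_smul, TensorProduct.tmul_smul, ha, smul_zero]
  refine TensorProduct.ext' fun r m => ?_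
  rw [LinearMap.lTensor_tmul, LinearMap.zero_apply, ← mul_one r, ← smul_eq_mul,
    ← TensorProduct.smul_tmul', h0, smul_zero]

/-- Surjectivity over `B` onto a finite module holds at some stage. -/
theorem exists_lTensor_surjective [Module.Finite A N] (j : S.J) (u : M →ₗ[A] N)
    (h : Function.Surjective (u.lTensor B)) :
    ∃ (k : S.J) (_ : S.Hom j k), Function.Surjective (u.lTensor (S.R k)) := by
  classical
  obtain ⟨s, hs⟩ := Module.Finite.fg_top (R := A) (M := N)
  have main : ∀ t : Finset N, ∃ (k : S.J) (_ : S.Hom j k),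
      ∀ n ∈ t, ((1 : S.R k) ⊗ₜ[A] n) ∈ LinearMap.range (u.lTensor (S.R k)) := by
    intro t
    induction t using Finset.induction with
    | empty =>
      obtain ⟨k, f, -, -⟩ := S.surj j 0
      exact ⟨k, f, by simp⟩
    | insert a t _ ih =>
      obtain ⟨k, f, hf⟩ := ih
      obtain ⟨w, hw⟩ := h ((1 : B) ⊗ₜ[A] a)
      obtain ⟨l, g, w, rfl⟩ := S.exists_lift k w
      obtain ⟨p, q, hq⟩ := S.exists_zero l (u.lTensor (S.R l) w - (1 : S.R l) ⊗ₜ[A] a) (by
        rw [map_sub, natural, hw]
        simp)
      obtain ⟨fg, -⟩ := S.comp f g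
      obtain ⟨e, -⟩ := S.comp fg q
      obtain ⟨gq, -⟩ := S.comp g q
      refine ⟨p, e, fun n hn => ?_⟩
      obtain rfl | hn := Finset.mem_insert.mp hn
      · refine ⟨(S.τ q).toLinearMap.rTensor M w, ?_⟩
        rw [map_sub, natural, sub_eq_zero] at hq
        simpa using hq
      · obtain ⟨v, hv⟩ := hf n hn
        refine ⟨(S.τ gq).toLinearMap.rTensor M v, ?_⟩
        rw [← natural, hv]
        simp
  obtain ⟨k, f, hf⟩ := main s
  refine ⟨k, f, ?_⟩
  have h0 : ∀ n, (1 : S.R k) ⊗ₜ[A] n ∈ LinearMap.range (u.lTensor (S.R k)) := by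
    intro n
    have hn : n ∈ Submodule.span A (s : Set N) := by rw [hs]; trivial
    induction hn using Submodule.span_induction with
    | mem n hn => exact hf n hn
    | zero => exact ⟨0, by simp⟩
    | add a b _ _ ha hb => rw [TensorProduct.tmul_add]; exact add_mem ha hb
    | smul c a _ ha => rw [TensorProduct.tmul_smul]; exact Submodule.smul_mem _ c ha
  intro z
  induction z with
  | zero => exact ⟨0, map_zero _⟩
  | add x y hx hy =>
    obtain ⟨a, rfl⟩ := hx
    obtain ⟨b, rfl⟩ := hy
    exact ⟨a + b, map_add _ a b⟩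
  | tmul r n =>
    obtain ⟨w, hw⟩ := h0 n
    refine ⟨r • w, ?_⟩
    show TensorProduct.AlgebraTensorModule.lTensor (S.R k) (S.R k) u (r • w) = _
    rw [map_smul]
    show r • (u.lTensor (S.R k)) w = _
    rw [hw, TensorProduct.smul_tmul', smul_eq_mul, mul_one]

/-- Bijectivity over `B` between a finite and a finitely presented module holds at some stage. -/
theorem exists_lTensor_bijective [Module.Finite A M] [Module.FinitePresentation A N] (j : S.J)
    (u : M →ₗ[A] N) (h : Function.Bijective (u.lTensor B)) :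
    ∃ (k : S.J) (_ : S.Hom j k), Function.Bijective (u.lTensor (S.R k)) := by
  classical
  obtain ⟨k, f, hk⟩ := S.exists_lTensor_surjective j u h.2
  obtain ⟨s, hs⟩ := Module.FinitePresentation.fg_ker (u.baseChange (S.R k)) hk
  have hs0 : ∀ z ∈ s, (S.ρ k).toLinearMap.rTensor M z = 0 := fun z hz => by
    apply h.1
    rw [← natural, map_zero]
    have hz' : (u.baseChange (S.R k)) z = 0 :=
      LinearMap.mem_ker.mp (hs ▸ Submodule.subset_span hz)
    rw [show u.lTensor (S.R k) z = (u.baseChange (S.R k)) z from rfl, hz', map_zero]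
  obtain ⟨l, g, hl⟩ := S.exists_zero_finset k s hs0
  obtain ⟨e, -⟩ := S.comp f g
  letI : Algebra (S.R k) (S.R l) := (S.τ g).toRingHom.toAlgebra
  haveI : IsScalarTower A (S.R k) (S.R l) := .of_algebraMap_eq fun a => ((S.τ g).commutes a).symm
  let cM := TensorProduct.AlgebraTensorModule.cancelBaseChange A (S.R k) (S.R k) (S.R l) M
  let cN := TensorProduct.AlgebraTensorModule.cancelBaseChange A (S.R k) (S.R k) (S.R l) N
  let U := (u.baseChange (S.R k)).lTensor (S.R l)
  have hnat : ∀ z, u.lTensor (S.R l) (cM z) = cN (U z) := by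
    intro z
    induction z with
    | zero => simp
    | add x y hx hy => simp only [map_add, hx, hy]
    | tmul r t =>
      induction t with
      | zero => simp
      | add x y hx hy => simp only [TensorProduct.tmul_add, map_add, hx, hy]
      | tmul c m => simp [cM, cN, U]
  refine ⟨l, e, ?_, fun z => ?_⟩
  · rw [injective_iff_map_eq_zero]
    intro z hz
    obtain ⟨z, rfl⟩ := cM.surjective z
    rw [hnat, map_eq_zero_iff _ cN.injective] at hz
    have hk' : Function.Surjective (u.baseChange (S.R k)) := hk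
    have he : Function.Exact ((LinearMap.ker (u.baseChange (S.R k))).subtype.lTensor (S.R l)) U :=
      lTensor_exact (M := LinearMap.ker (u.baseChange (S.R k))) (S.R l)
        (LinearMap.exact_subtype_ker_map (u.baseChange (S.R k))) hk'
    obtain ⟨t, rfl⟩ := (he z).mp hz
    clear hz
    induction t with
    | zero => simp
    | add x y hx hy => simp only [map_add, hx, hy, add_zero]
    | tmul r q =>
      obtain ⟨q, hq⟩ := q
      rw [LinearMap.lTensor_tmul]
      show cM (r ⊗ₜ q) = 0
      have hc : ∀ y, cM (r ⊗ₜ y) = r • (S.τ g).toLinearMap.rTensor M y := by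
        intro y
        induction y with
        | zero => simp
        | add x y hx hy => simp only [TensorProduct.tmul_add, map_add, hx, hy, smul_add]
        | tmul c m =>
          simp [cM, TensorProduct.smul_tmul', Algebra.smul_def, RingHom.algebraMap_toAlgebra,
            mul_comm]
      have hz0 : ∀ y ∈ Submodule.span (S.R k) (s : Set (S.R k ⊗[A] M)), cM (r ⊗ₜ y) = 0 := by
        intro y hy
        induction hy using Submodule.span_induction with
        | mem y hy => rw [hc, hl y hy, smul_zero]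
        | zero => simp
        | add a b _ _ ha hb => rw [TensorProduct.tmul_add, map_add, ha, hb, add_zero]
        | smul c a _ ha => rw [TensorProduct.tmul_smul, map_smul, ha, smul_zero]
      exact hz0 q (hs.symm ▸ hq)
  · have hk' : Function.Surjective (u.baseChange (S.R k)) := hk
    obtain ⟨w, hw⟩ := LinearMap.lTensor_surjective (S.R l) hk' (cN.symm z)
    exact ⟨cM w, by rw [hnat, show U w = cN.symm z from hw, LinearEquiv.apply_symm_apply]⟩

end AlgSystem

end Groth.Agent.PullbackMod
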