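import Groth.Agent.AffLim.Stalks

/-!
# An open condition holding on the limit holds at a stage
-/

set_option autoImplicit false
set_option backward.isDefEq.respectTransparency false
set_option backward.defeqAttrib.useBackward true
set_option linter.style.haveILetI false

universe u

open CategoryTheory CategoryTheory.Limits AlgebraicGeometry TopologicalSpace

namespace Groth.Agent.PullbackMod

variable {I : Type u} [SmallCategory I] [IsCofiltered I] (D : I ⥤ Scheme.{u}) (c : Cone D)
  (hc : IsLimit c) [hD : ∀ {i j : I} (f : i ⟶ j), IsAffineHom (D.map f)]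

include hc in
/-- A compatible family of open sets whose preimages cover the limit is everything at some stage. -/
theorem exists_all_of_open (i₀ : I) [CompactSpace (D.obj i₀)]
    (Q : ∀ j : Over i₀, D.obj j.left → Prop) (hopen : ∀ j, IsOpen {y | Q j y})
    (hmono : ∀ {j k : Over i₀} (f : k ⟶ j) (y : D.obj k.left), Q j (D.map f.left y) → Q k y)
    (hpt : ∀ x : c.pt, ∃ j : Over i₀, Q j (c.π.app j.left x)) :
    ∃ j : Over i₀, ∀ y, Q j y := by
  classical
  haveI := isAffineHom_π_app D c hc i₀
  haveI : CompactSpace c.pt := QuasiCompact.compactSpace_of_compactSpace (c.π.app i₀)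
  choose j hj using hpt
  obtain ⟨s, hs⟩ := isCompact_univ.elim_finite_subcover
    (fun x => (c.π.app (j x).left) ⁻¹' {y | Q (j x) y})
    (fun x => (hopen (j x)).preimage (c.π.app (j x).left).continuous)
    fun x _ => Set.mem_iUnion.mpr ⟨x, Set.mem_preimage.mpr (hj x)⟩
  obtain ⟨k, hk⟩ := IsCofiltered.inf_objs_exists (s.image j)
  have hall : ∀ x : c.pt, Q k (c.π.app k.left x) := fun x => by
    obtain ⟨y, hy, hxy⟩ := Set.mem_iUnion₂.mp (hs (Set.mem_univ x))
    obtain ⟨f⟩ := hk (Finset.mem_image_of_mem j hy)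
    refine hmono f _ ?_
    rw [← Scheme.Hom.comp_apply, c.w f.left]
    exact hxy
  haveI : CompactSpace (D.obj k.left) := QuasiCompact.compactSpace_of_compactSpace (D.map k.hom)
  let Z : Closeds (D.obj k.left) := ⟨{y | Q k y}ᶜ, (hopen k).isClosed_compl⟩
  let I' := Scheme.IdealSheafData.vanishingIdeal Z
  haveI : CompactSpace I'.subscheme := QuasiCompact.compactSpace_of_compactSpace I'.subschemeι
  have hr : Set.range I'.subschemeι = {y | Q k y}ᶜ := by
    rw [Scheme.IdealSheafData.range_subschemeι, Scheme.IdealSheafData.coe_support_vanishingIdeal]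
    rfl
  have he : IsEmpty ↥(pullback I'.subschemeι (c.π.app k.left)) := ⟨fun p => by
    have h1 : c.π.app k.left (pullback.snd I'.subschemeι (c.π.app k.left) p) ∈
        Set.range I'.subschemeι := ⟨pullback.fst I'.subschemeι (c.π.app k.left) p, by
      rw [← Scheme.Hom.comp_apply, pullback.condition, Scheme.Hom.comp_apply]⟩
    rw [hr] at h1
    exact h1 (hall _)⟩
  obtain ⟨l, φ, hl⟩ := AffLim.exists_isEmpty_pullback D c hc k.left I'.subschemeι he
  refine ⟨Over.mk (φ ≫ k.hom), fun y => hmono (k := Over.mk (φ ≫ k.hom)) (Over.homMk φ rfl) y ?_⟩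
  by_contra hy
  obtain ⟨t, ht⟩ : D.map φ y ∈ Set.range I'.subschemeι := by rw [hr]; exact hy
  obtain ⟨p, -, -⟩ := Scheme.Pullback.exists_preimage_pullback (f := I'.subschemeι) (g := D.map φ) t y ht
  exact hl.false p

end Groth.Agent.PullbackMod
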