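import Groth.Agent.PullbackMod.Hom
import Groth.Agent.PullbackMod.Props
import Groth.Agent.PullbackMod.ColimTensor
import Groth.Agent.PullbackMod.LimOpen

/-!
# Stalkwise conditions on inverse images along cofiltered limits
-/

set_option autoImplicit false
set_option backward.isDefEq.respectTransparency false
set_option backward.defeqAttrib.useBackward true
set_option linter.style.haveILetI false

universe u

open CategoryTheory CategoryTheory.Limits AlgebraicGeometry TopologicalSpace Opposite
open scoped TensorProduct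

namespace Groth.Agent.PullbackMod

/-- The stalk at `x` is free of rank `n`. -/
def FreeAt {X : Scheme.{u}} (n : ℕ) (M : X.Modules) (x : X) : Prop :=
  Nonempty (M.presheaf.stalk x ≃ₗ[X.presheaf.stalk x] (Fin n → X.presheaf.stalk x))

section mapAt

variable {X X' X'' : Scheme.{u}}

/-- The map of stalks of a morphism at a point with a prescribed image. -/
noncomputable def mapAt (g : X' ⟶ X) (x' : X') {x : X} (h : g x' = x) :
    X.presheaf.stalk x ⟶ X'.presheaf.stalk x' :=
  (X.presheaf.stalkCongr (.of_eq h.symm)).hom ≫ g.stalkMap x'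

lemma mapAt_self (g : X' ⟶ X) (x' : X') : mapAt g x' rfl = g.stalkMap x' := by
  simp [mapAt]

lemma mapAt_germ (g : X' ⟶ X) (x' : X') {x : X} (h : g x' = x) {U : X.Opens} (hx : x ∈ U)
    (a : Γ(X, U)) :
    mapAt g x' h (X.presheaf.germ U x hx a) =
      X'.presheaf.germ (g ⁻¹ᵁ U) x' (show g x' ∈ U from h ▸ hx) (g.app U a) := by
  subst h
  rw [mapAt_self]
  exact Scheme.Hom.germ_stalkMap_apply g U x' hx a

lemma mapAt_mapAt (g : X' ⟶ X) (g' : X'' ⟶ X') (h : X'' ⟶ X) (e : g' ≫ g = h) (x'' : X'')
    {x' : X'} (h' : g' x'' = x') {x : X} (hx : g x' = x) (hh : h x'' = x)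
    (a : X.presheaf.stalk x) :
    mapAt g' x'' h' (mapAt g x' hx a) = mapAt h x'' hh a := by
  subst e
  obtain ⟨U, hxU, a, rfl⟩ := TopCat.Presheaf.exists_germ_eq X.presheaf a
  rw [mapAt_germ, mapAt_germ, mapAt_germ]
  rfl

variable {M N : X.Modules} (u : M ⟶ N) (g : X' ⟶ X) (x' : X') {x : X} (h : g x' = x)

theorem zero_iff_mapAt :
    letI := (mapAt g x' h).hom.toAlgebra
    stalkLin ((Scheme.Modules.pullback g).map u) x' = 0 ↔
      (stalkLin u x).lTensor (X'.presheaf.stalk x') = 0 := by
  subst h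
  rw [mapAt_self]
  exact stalk_pullback_eq_zero_iff g u x'

theorem surjective_iff_mapAt :
    letI := (mapAt g x' h).hom.toAlgebra
    Function.Surjective (stalkLin ((Scheme.Modules.pullback g).map u) x') ↔
      Function.Surjective ((stalkLin u x).lTensor (X'.presheaf.stalk x')) := by
  subst h
  rw [mapAt_self]
  exact surjective_stalk_pullback_iff g u x'

theorem bijective_iff_mapAt :
    letI := (mapAt g x' h).hom.toAlgebra
    Function.Bijective (stalkLin ((Scheme.Modules.pullback g).map u) x') ↔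
      Function.Bijective ((stalkLin u x).lTensor (X'.presheaf.stalk x')) := by
  subst h
  rw [mapAt_self]
  exact and_congr (injective_stalk_pullback_iff g u x') (surjective_stalk_pullback_iff g u x')

theorem freeAt_of_mapAt [Coh.IsQCoh M] (n : ℕ)
    (e : letI := (mapAt g x' h).hom.toAlgebra
      Nonempty ((X'.presheaf.stalk x' ⊗[X.presheaf.stalk x] M.presheaf.stalk x)
        ≃ₗ[X'.presheaf.stalk x'] (Fin n → X'.presheaf.stalk x'))) :
    FreeAt n ((Scheme.Modules.pullback g).obj M) x' := by
  subst h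
  rw [mapAt_self] at e
  letI := (g.stalkMap x').hom.toAlgebra
  obtain ⟨φ, -⟩ := exists_pullback_stalk_equiv g M x'
  obtain ⟨e⟩ := e
  exact ⟨φ.symm.trans e⟩

theorem exists_map_comp_conj {X'' : Scheme.{u}} (g' : X'' ⟶ X') (k : X'' ⟶ X) (e : g' ≫ g = k) :
    ∃ (a : (Scheme.Modules.pullback k).obj M ≅
        (Scheme.Modules.pullback g').obj ((Scheme.Modules.pullback g).obj M))
      (b : (Scheme.Modules.pullback g').obj ((Scheme.Modules.pullback g).obj N) ≅
        (Scheme.Modules.pullback k).obj N),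
      (Scheme.Modules.pullback k).map u =
        a.hom ≫ (Scheme.Modules.pullback g').map ((Scheme.Modules.pullback g).map u) ≫ b.hom := by
  let e' := Scheme.Modules.pullbackComp g' g ≪≫ Scheme.Modules.pullbackCongr e
  refine ⟨(e'.app M).symm, e'.app N, ?_⟩
  rw [Iso.symm_hom, Iso.eq_inv_comp]
  exact (e'.hom.naturality u).symm

/-- The three stalk conditions pass to further inverse images. -/
theorem stalk_conditions_comp {X'' : Scheme.{u}} (g' : X'' ⟶ X') (k : X'' ⟶ X) (e : g' ≫ g = k)
    (x'' : X'') :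
    (stalkLin ((Scheme.Modules.pullback g).map u) (g' x'') = 0 →
        stalkLin ((Scheme.Modules.pullback k).map u) x'' = 0) ∧
      (Function.Surjective (stalkLin ((Scheme.Modules.pullback g).map u) (g' x'')) →
        Function.Surjective (stalkLin ((Scheme.Modules.pullback k).map u) x'')) ∧
      (Function.Bijective (stalkLin ((Scheme.Modules.pullback g).map u) (g' x'')) →
        Function.Bijective (stalkLin ((Scheme.Modules.pullback k).map u) x'')) := by
  obtain ⟨a, b, hab⟩ := exists_map_comp_conj u g g' k e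
  have ha := (isIso_iff_stalk a.hom).mp inferInstance x''
  have hb := (isIso_iff_stalk b.hom).mp inferInstance x''
  letI := (g'.stalkMap x'').hom.toAlgebra
  rw [hab, stalkLin_comp, stalkLin_comp]
  refine ⟨fun h => ?_, fun h => ?_, fun h => ?_⟩
  · rw [(stalk_pullback_eq_zero_iff g' _ x'').mpr (by rw [h, LinearMap.lTensor_zero])]
    simp
  · exact (hb.2.comp ((surjective_stalk_pullback_iff g' _ x'').mpr
      (LinearMap.lTensor_surjective _ h))).comp ha.2
  · refine (hb.comp ?_).comp ha
    refine ⟨(injective_stalk_pullback_iff g' _ x'').mpr ?_,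
      (surjective_stalk_pullback_iff g' _ x'').mpr (LinearMap.lTensor_surjective _ h.2)⟩
    exact ((LinearEquiv.ofBijective _ h).lTensor (X''.presheaf.stalk x'')).injective

end mapAt

section system

variable {I : Type u} [SmallCategory I] [IsCofiltered I] (D : I ⥤ Scheme.{u}) (c : Cone D)
  (hc : IsLimit c) [hD : ∀ {i j : I} (f : i ⟶ j), IsAffineHom (D.map f)] (i₀ : I) (x : c.pt)

omit [IsCofiltered I] hD in
lemma π_apply {j k : I} (f : k ⟶ j) : D.map f (c.π.app k x) = c.π.app j x := by
  rw [← Scheme.Hom.comp_apply, c.w]; rfl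

include hc in
/-- The local rings of the stages exhaust the local ring of the limit. -/
theorem exists_algSystem :
    letI : Algebra ((D.obj i₀).presheaf.stalk (c.π.app i₀ x)) (c.pt.presheaf.stalk x) :=
    ((c.π.app i₀).stalkMap x).hom.toAlgebra
    ∃ S : AlgSystem ((D.obj i₀).presheaf.stalk (c.π.app i₀ x)) (c.pt.presheaf.stalk x),
      Nonempty S.J ∧ ∀ k : S.J, ∃ j : Over i₀,
        (∀ {M : (D.obj i₀).Modules} [Coh.IsQCoh M] (n : ℕ),
          Nonempty ((S.R k ⊗[(D.obj i₀).presheaf.stalk (c.π.app i₀ x)]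
            M.presheaf.stalk (c.π.app i₀ x)) ≃ₗ[S.R k] (Fin n → S.R k)) →
            FreeAt n ((Scheme.Modules.pullback (D.map j.hom)).obj M) (c.π.app j.left x)) ∧
        ∀ {M N : (D.obj i₀).Modules} (u : M ⟶ N),
          ((stalkLin u (c.π.app i₀ x)).lTensor (S.R k) = 0 →
            stalkLin ((Scheme.Modules.pullback (D.map j.hom)).map u) (c.π.app j.left x) = 0) ∧
          (Function.Surjective ((stalkLin u (c.π.app i₀ x)).lTensor (S.R k)) →
            Function.Surjective
              (stalkLin ((Scheme.Modules.pullback (D.map j.hom)).map u) (c.π.app j.left x))) ∧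
          (Function.Bijective ((stalkLin u (c.π.app i₀ x)).lTensor (S.R k)) →
            Function.Bijective
              (stalkLin ((Scheme.Modules.pullback (D.map j.hom)).map u) (c.π.app j.left x))) := by
  letI : Algebra ((D.obj i₀).presheaf.stalk (c.π.app i₀ x)) (c.pt.presheaf.stalk x) :=
    ((c.π.app i₀).stalkMap x).hom.toAlgebra
  letI alg : ∀ j : Over i₀, Algebra ((D.obj i₀).presheaf.stalk (c.π.app i₀ x))
      ((D.obj j.left).presheaf.stalk (c.π.app j.left x)) := fun j =>
    (mapAt (D.map j.hom) (c.π.app j.left x) (π_apply D c x j.hom)).hom.toAlgebra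
  let S : AlgSystem ((D.obj i₀).presheaf.stalk (c.π.app i₀ x)) (c.pt.presheaf.stalk x) :=
    { J := Over i₀
      R := fun j => (D.obj j.left).presheaf.stalk (c.π.app j.left x)
      alg := alg
      ρ := fun j =>
        { toRingHom := (mapAt (c.π.app j.left) x rfl).hom
          commutes' := fun a => by
            show mapAt (c.π.app j.left) x rfl (mapAt (D.map j.hom) _ _ a) = (c.π.app i₀).stalkMap x a
            exact (mapAt_mapAt (D.map j.hom) (c.π.app j.left) (c.π.app i₀) (c.w j.hom) x rfl
              (π_apply D c x j.hom) rfl a).trans (congr($(mapAt_self (c.π.app i₀) x) a)) }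
      Hom := fun j k => k ⟶ j
      τ := fun {j k} f =>
        { toRingHom := (mapAt (D.map f.left) (c.π.app k.left x) (π_apply D c x f.left)).hom
          commutes' := fun a => by
            show mapAt (D.map f.left) _ _ (mapAt (D.map j.hom) _ _ a) = mapAt (D.map k.hom) _ _ a
            exact mapAt_mapAt _ _ _ (by rw [← D.map_comp, Over.w]) _ _ _ _ a }
      comm := fun {j k} f => AlgHom.ext fun a =>
        mapAt_mapAt (D.map f.left) (c.π.app k.left) (c.π.app j.left) (c.w f.left) x rfl
          (π_apply D c x f.left) rfl a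
      comp := fun {j k l} f g => ⟨g ≫ f, AlgHom.ext fun a => by
        show mapAt (D.map (g ≫ f).left) (c.π.app l.left x) (π_apply D c x (g ≫ f).left) a =
          mapAt (D.map g.left) (c.π.app l.left x) (π_apply D c x g.left)
            (mapAt (D.map f.left) (c.π.app k.left x) (π_apply D c x f.left) a)
        exact (mapAt_mapAt (D.map f.left) (D.map g.left) (D.map (g ≫ f).left)
          (by rw [← D.map_comp]; rfl) _ _ _ _ a).symm⟩
      surj := fun j b => by
        obtain ⟨i, a, ha⟩ := AffLim.exists_stalkMap_eq D c hc x b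
        obtain ⟨l, p, q, -⟩ := IsCofilteredOrEmpty.cone_objs j.left i
        refine ⟨Over.mk (p ≫ j.hom), Over.homMk p rfl,
          mapAt (D.map q) (c.π.app l x) (π_apply D c x q) a, ?_⟩
        show mapAt (c.π.app l) x rfl (mapAt (D.map q) _ _ a) = b
        exact ((mapAt_mapAt (D.map q) (c.π.app l) (c.π.app i) (c.w q) x rfl (π_apply D c x q) rfl
          a).trans (congr($(mapAt_self (c.π.app i) x) a))).trans ha
      inj := fun j a ha => by
        obtain ⟨U, hxU, t, rfl⟩ := TopCat.Presheaf.exists_germ_eq (D.obj j.left).presheaf a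
        obtain ⟨k, φ, W, e, hxW, hW⟩ := AffLim.exists_appLE_eq_zero D c hc x hxU t (by
          exact (mapAt_germ (c.π.app j.left) x rfl hxU t).symm.trans ha)
        refine ⟨Over.mk (φ ≫ j.hom), Over.homMk φ rfl, ?_⟩
        show mapAt (D.map φ) (c.π.app k x) (π_apply D c x φ) ((D.obj j.left).presheaf.germ U _ hxU t) = 0
        rw [mapAt_germ, ← (D.obj k).presheaf.germ_res_apply (homOfLE e) _ hxW]
        exact (congrArg ((D.obj k).presheaf.germ W (c.π.app k x) hxW) hW).trans (map_zero _) }
  exact ⟨S, ⟨Over.mk (𝟙 i₀)⟩, fun k => ⟨k, fun {M} _ n e => freeAt_of_mapAt _ _ _ n e, fun u => ⟨(zero_iff_mapAt u _ _ _).mpr, (surjective_iff_mapAt u _ _ _).mpr,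
    (bijective_iff_mapAt u _ _ _).mpr⟩⟩⟩

variable {M N : (D.obj i₀).Modules} (u : M ⟶ N)

include hc in
theorem exists_stage_zero [Module.Finite ((D.obj i₀).presheaf.stalk (c.π.app i₀ x))
      (M.presheaf.stalk (c.π.app i₀ x))]
    (h : stalkLin ((Scheme.Modules.pullback (c.π.app i₀)).map u) x = 0) :
    ∃ j : Over i₀,
      stalkLin ((Scheme.Modules.pullback (D.map j.hom)).map u) (c.π.app j.left x) = 0 := by
  letI : Algebra ((D.obj i₀).presheaf.stalk (c.π.app i₀ x)) (c.pt.presheaf.stalk x) :=
    ((c.π.app i₀).stalkMap x).hom.toAlgebra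
  obtain ⟨S, ⟨j₀⟩, hS⟩ := exists_algSystem D c hc i₀ x
  obtain ⟨k, -, hk⟩ := S.exists_lTensor_eq_zero j₀ _
    ((stalk_pullback_eq_zero_iff _ u x).mp h)
  obtain ⟨j, hj⟩ := hS k
  exact ⟨j, (hj.2 u).1 hk⟩

include hc in
theorem exists_stage_surjective [Module.Finite ((D.obj i₀).presheaf.stalk (c.π.app i₀ x))
      (N.presheaf.stalk (c.π.app i₀ x))]
    (h : Function.Surjective (stalkLin ((Scheme.Modules.pullback (c.π.app i₀)).map u) x)) :
    ∃ j : Over i₀, Function.Surjective
      (stalkLin ((Scheme.Modules.pullback (D.map j.hom)).map u) (c.π.app j.left x)) := by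
  letI : Algebra ((D.obj i₀).presheaf.stalk (c.π.app i₀ x)) (c.pt.presheaf.stalk x) :=
    ((c.π.app i₀).stalkMap x).hom.toAlgebra
  obtain ⟨S, ⟨j₀⟩, hS⟩ := exists_algSystem D c hc i₀ x
  obtain ⟨k, -, hk⟩ := S.exists_lTensor_surjective j₀ _
    ((surjective_stalk_pullback_iff _ u x).mp h)
  obtain ⟨j, hj⟩ := hS k
  exact ⟨j, (hj.2 u).2.1 hk⟩

include hc in
theorem exists_stage_bijective [Module.Finite ((D.obj i₀).presheaf.stalk (c.π.app i₀ x))
      (M.presheaf.stalk (c.π.app i₀ x))]
    [Module.FinitePresentation ((D.obj i₀).presheaf.stalk (c.π.app i₀ x))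
      (N.presheaf.stalk (c.π.app i₀ x))]
    (h : Function.Bijective (stalkLin ((Scheme.Modules.pullback (c.π.app i₀)).map u) x)) :
    ∃ j : Over i₀, Function.Bijective
      (stalkLin ((Scheme.Modules.pullback (D.map j.hom)).map u) (c.π.app j.left x)) := by
  letI : Algebra ((D.obj i₀).presheaf.stalk (c.π.app i₀ x)) (c.pt.presheaf.stalk x) :=
    ((c.π.app i₀).stalkMap x).hom.toAlgebra
  obtain ⟨S, ⟨j₀⟩, hS⟩ := exists_algSystem D c hc i₀ x
  obtain ⟨k, -, hk⟩ := S.exists_lTensor_bijective j₀ _
    ⟨(injective_stalk_pullback_iff _ u x).mp h.1, (surjective_stalk_pullback_iff _ u x).mp h.2⟩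
  obtain ⟨j, hj⟩ := hS k
  exact ⟨j, (hj.2 u).2.2 hk⟩

end system

end Groth.Agent.PullbackMod
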