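import Groth.Agent.QCohLib.FPSections
import Groth.Agent.TildePullback.Basic

/-!
# Inverse images of quasi-coherent modules: sections on affine opens
-/

set_option autoImplicit false
set_option backward.isDefEq.respectTransparency false
set_option backward.defeqAttrib.useBackward true
set_option linter.style.haveILetI false

universe u

open CategoryTheory CategoryTheory.Limits AlgebraicGeometry TopologicalSpace Opposite
open Groth.Agent.CohBase Groth.Agent.QCohLib

namespace Groth.Agent.PullbackMod

variable {X X' : Scheme.{u}}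

/-- A map of modules on sections as a linear map. -/
noncomputable def appLin {M N : X.Modules} (φ : M ⟶ N) (W : X.Opens) :
    Γ(M, W) →ₗ[Γ(X, W)] Γ(N, W) where
  toFun := φ.app W
  map_add' s t := map_add _ s t
  map_smul' a s := Scheme.Modules.Hom.app_smul φ a s

/-- Maps into `S` are maps of the sections on `W`. -/
def DetW (M : X.Modules) (W : X.Opens) (S : X.Modules) : Prop :=
  Function.Bijective fun ψ : M ⟶ S => appLin ψ W

lemma DetW.of_iso {M : X.Modules} {W : X.Opens} {S S' : X.Modules} (h : DetW M W S) (e : S ≅ S') :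
    DetW M W S' := by
  constructor
  · intro ψ₁ ψ₂ he
    have h0 : ψ₁ ≫ e.inv = ψ₂ ≫ e.inv := h.1 (LinearMap.ext fun m => by
      show (ψ₁ ≫ e.inv).app W m = (ψ₂ ≫ e.inv).app W m
      exact congrArg (e.inv.app W) (LinearMap.congr_fun he m))
    exact (cancel_mono e.inv).mp h0
  · intro l
    obtain ⟨ψ, hψ⟩ := h.2 ((appLin e.inv W).comp l)
    refine ⟨ψ ≫ e.hom, LinearMap.ext fun m => ?_⟩
    show e.hom.app W (ψ.app W m) = l m
    rw [show ψ.app W m = e.inv.app W (l m) from LinearMap.congr_fun hψ m]
    exact congr($(e.inv_hom_id).app W (l m))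

/-- Maps out of the tilde of a module are determined by global sections. -/
theorem bijective_mapΓ {R : CommRingCat.{u}} (P T : (Spec R).Modules) [IsIso P.fromTildeΓ] :
    Function.Bijective fun f : P ⟶ T => (moduleSpecΓFunctor (R := R)).map f := by
  constructor
  · intro f g h
    have hf := (Scheme.Modules.fromTildeΓNatTrans (R := R)).naturality f
    have hg := (Scheme.Modules.fromTildeΓNatTrans (R := R)).naturality g
    dsimp only at h
    dsimp only [Functor.comp_map, Functor.id_map] at hf hg
    rw [h] at hf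
    exact (cancel_epi P.fromTildeΓ).mp (hf.symm.trans hg)
  · intro h
    refine ⟨inv P.fromTildeΓ ≫ (tilde.functor R).map h ≫ T.fromTildeΓ, ?_⟩
    have h1 := (tilde.adjunction (R := R)).right_triangle_components P
    have h2 := (tilde.adjunction (R := R)).right_triangle_components T
    have h3 := (tilde.adjunction (R := R)).unit.naturality h
    have e : (moduleSpecΓFunctor (R := R)).map (inv P.fromTildeΓ) =
        (tilde.adjunction (R := R)).unit.app (moduleSpecΓFunctor.obj P) := by
      rw [Functor.map_inv]
      exact IsIso.inv_eq_of_inv_hom_id h1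
    dsimp only
    rw [Functor.map_comp, Functor.map_comp, e]
    erw [← reassoc_of% h3]
    erw [h2]
    exact Category.comp_id _

section fromSpec

variable {W : X.Opens} (hW : IsAffineOpen W)

include hW in
lemma preimage_self_eq : hW.fromSpec ⁻¹ᵁ W = ⊤ := hW.fromSpec_preimage_self

lemma res_app_fromSpec (a : Γ(X, W)) :
    (Spec Γ(X, W)).presheaf.map (homOfLE hW.fromSpec_preimage_self.ge).op
      (hW.fromSpec.app W a) = (Scheme.ΓSpecIso Γ(X, W)).inv a := by
  rw [hW.fromSpec_app_self]
  rw [ConcreteCategory.comp_apply, ← ConcreteCategory.comp_apply, ← Functor.map_comp]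
  exact congr($((Spec Γ(X, W)).presheaf.map_id (op ⊤)) _)

theorem detW_pushforward_fromSpec (M : X.Modules) [IsIso (M.restrict hW.fromSpec).fromTildeΓ]
    (T : (Spec Γ(X, W)).Modules) :
    DetW M W ((Scheme.Modules.pushforward hW.fromSpec).obj T) := by
  let i := hW.fromSpec
  let P := M.restrict i
  let te := topEquiv M hW
  let adj := Scheme.Modules.restrictAdjunction i
  have hpre : i ⁻¹ᵁ W = ⊤ := hW.fromSpec_preimage_self
  let r : Γ(T, i ⁻¹ᵁ W) → Γ(T, ⊤) := T.presheaf.map (homOfLE hpre.ge).op
  have hr : Function.Bijective r := by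
    refine Function.bijective_iff_has_inverse.mpr ⟨T.presheaf.map (homOfLE hpre.le).op, ?_, ?_⟩
    · intro x
      exact (restr_trans T hpre.ge hpre.le x).trans (restr_self T _ x)
    · intro x
      exact (restr_trans T hpre.le hpre.ge x).trans (restr_self T _ x)
  have hrs : ∀ (a : Γ(X, W)) (y : Γ((Scheme.Modules.pushforward i).obj T, W)),
      r (a • y) = a • r y := fun a y => by
    refine (T.val.map_smul (homOfLE hpre.ge).op (i.app W a) y).trans ?_
    rw [Scheme.Modules.smul_Spec_def]
    refine congrArg (fun c : Γ(Spec Γ(X, W), ⊤) => c • r y) ?_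
    refine (res_app_fromSpec hW a).trans ?_
    exact (congr($((Spec Γ(X, W)).presheaf.map_id _) _)).symm
  have htop : i ''ᵁ (⊤ : (Spec Γ(X, W)).Opens) = W := by
    rw [Scheme.Hom.image_top_eq_opensRange, hW.opensRange_fromSpec]
  have key : ∀ (f : P ⟶ T) (x : Γ(P, ⊤)),
      r ((adj.homEquiv M T f).app W (te x)) = f.app ⊤ x := by
    intro f x
    rw [Adjunction.homEquiv_unit]
    have h0 := congr($(f.mapPresheaf.naturality (homOfLE hpre.ge).op)
      (M.presheaf.map (homOfLE (i.image_preimage_le W)).op (te x)))
    refine h0.symm.trans (congrArg (f.app ⊤) ?_)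
    apply (ConcreteCategory.bijective_of_isIso (M.restrictAppIso i ⊤).hom).1
    show M.presheaf.map (homOfLE (i.image_mono hpre.ge)).op
      (M.presheaf.map (homOfLE (i.image_preimage_le W)).op
        (M.presheaf.map (homOfLE htop.ge).op ((M.restrictAppIso i ⊤).hom x))) = _
    erw [restr_trans, restr_trans]
    exact restr_self M _ _
  haveI : IsIso P.fromTildeΓ := ‹_›
  have hΓ := bijective_mapΓ P T
  constructor
  · intro ψ₁ ψ₂ he
    refine (adj.homEquiv M T).symm.injective (hΓ.1 ?_)
    dsimp only
    refine ModuleCat.hom_ext (LinearMap.ext fun x => ?_)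
    show ((adj.homEquiv M T).symm ψ₁).app ⊤ x = ((adj.homEquiv M T).symm ψ₂).app ⊤ x
    rw [← key, ← key, Equiv.apply_symm_apply, Equiv.apply_symm_apply]
    exact congrArg r (LinearMap.congr_fun he (te x))
  · intro l
    let h : (moduleSpecΓFunctor (R := Γ(X, W))).obj P ⟶ moduleSpecΓFunctor.obj T :=
      ModuleCat.ofHom
        (X := (moduleSpecΓFunctor (R := Γ(X, W))).obj P) (Y := moduleSpecΓFunctor.obj T)
      { toFun := fun x => r (l (te x))
        map_add' := fun x y => by
          refine (congrArg (fun z => r (l z)) (map_add te x y)).trans ?_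
          refine (congrArg r (map_add l (te x) (te y))).trans ?_
          exact map_add (T.presheaf.map (homOfLE hpre.ge).op).hom _ _
        map_smul' := fun a x => by
          refine (congrArg (fun z => r (l z)) (map_smul te a x)).trans ?_
          refine (congrArg r (map_smul l a (te x))).trans ?_
          exact hrs a _ }
    obtain ⟨f, hf⟩ := hΓ.2 h
    refine ⟨adj.homEquiv M T f, LinearMap.ext fun m => hr.1 ?_⟩
    obtain ⟨x, rfl⟩ := te.surjective m
    show r ((adj.homEquiv M T f).app W (te x)) = r (l (te x))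
    rw [key]
    exact congr($hf x)

end fromSpec

section pullback

variable (g : X' ⟶ X) (M : X.Modules) {W : X.Opens} {W' : X'.Opens}

/-- The canonical map from sections of `M` to sections of its inverse image. -/
noncomputable def pullMap (e : W' ≤ g ⁻¹ᵁ W) :
    Γ(M, W) →+ Γ((Scheme.Modules.pullback g).obj M, W') :=
  (((Scheme.Modules.pullback g).obj M).presheaf.map (homOfLE e).op).hom.comp
    (((Scheme.Modules.pullbackPushforwardAdjunction g).unit.app M).app W).hom

lemma pullMap_smul (e : W' ≤ g ⁻¹ᵁ W) (a : Γ(X, W)) (m : Γ(M, W)) :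
    pullMap g M e (a • m) = g.appLE W W' e a • pullMap g M e m := by
  refine (congrArg _ (Scheme.Modules.Hom.app_smul _ a m)).trans ?_
  exact ((Scheme.Modules.pullback g).obj M).val.map_smul (homOfLE e).op (g.app W a) _

lemma pullMap_res (e : W' ≤ g ⁻¹ᵁ W) {V : X.Opens} {V' : X'.Opens} (hV : V ≤ W) (hV' : V' ≤ W')
    (e' : V' ≤ g ⁻¹ᵁ V) (m : Γ(M, W)) :
    ((Scheme.Modules.pullback g).obj M).presheaf.map (homOfLE hV').op (pullMap g M e m) =
      pullMap g M e' (M.presheaf.map (homOfLE hV).op m) := by
  have h := congr($(((Scheme.Modules.pullbackPushforwardAdjunction g).unit.app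
    M).mapPresheaf.naturality (homOfLE hV).op) m)
  refine Eq.trans ?_ (congrArg
    (((Scheme.Modules.pullback g).obj M).presheaf.map (homOfLE e').op) h.symm)
  exact (restr_trans _ e hV' _).trans (restr_trans _ (g.preimage_mono hV) e' _).symm

variable (hW : IsAffineOpen W) (hW' : IsAffineOpen W') (e : W' ≤ g ⁻¹ᵁ W)

include hW hW' e in
theorem isIso_fromTildeΓ_pullback_restrict [Coh.IsQCoh M] :
    IsIso (((Scheme.Modules.pullback g).obj M).restrict hW'.fromSpec).fromTildeΓ := by
  let A := Γ(X, W)
  let i := hW.fromSpec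
  let j := hW'.fromSpec
  let φ := g.appLE W W' e
  haveI : IsIso (M.restrict i).fromTildeΓ :=
    (isIso_fromTildeΓ_iff_isLocalizing _).mpr (isLocalizing_restrict M hW)
  have hcomp : j ≫ g = Spec.map φ ≫ i := (IsAffineOpen.SpecMap_appLE_fromSpec g hW hW' e).symm
  let P₀ := (moduleSpecΓFunctor (R := A)).obj (M.restrict i)
  let iso : ((Scheme.Modules.pullback g).obj M).restrict j ≅
      (tilde.functor Γ(X', W')).obj ((ModuleCat.extendScalars.{u, u, u} φ.hom).obj P₀) :=
    (Scheme.Modules.restrictFunctorIsoPullback j).app _ ≪≫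
      (Scheme.Modules.pullbackComp j g).app M ≪≫ (Scheme.Modules.pullbackCongr hcomp).app M ≪≫
      ((Scheme.Modules.pullbackComp (Spec.map φ) i).app M).symm ≪≫
      (Scheme.Modules.pullback (Spec.map φ)).mapIso
        (((Scheme.Modules.restrictFunctorIsoPullback i).app M).symm ≪≫
          (asIso (M.restrict i).fromTildeΓ).symm) ≪≫
      (TildePullback.tildePullbackIso φ).app P₀
  have hq : Coh.IsQCoh (((Scheme.Modules.pullback g).obj M).restrict j) :=
    (SheafOfModules.isQuasicoherent.{u} (Spec Γ(X', W')).ringCatSheaf).prop_of_iso iso.symm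
      (inferInstanceAs (((tilde.functor Γ(X', W')).obj
        ((ModuleCat.extendScalars.{u, u, u} φ.hom).obj P₀)).IsQuasicoherent))
  exact Scheme.Modules.isIso_fromTildeΓ_of_isQuasicoherent _

end pullback

end Groth.Agent.PullbackMod
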