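import Groth.Agent.PullbackMod.Props

/-!
# Local projectivity of inverse images
-/

set_option autoImplicit false
set_option backward.isDefEq.respectTransparency false
set_option backward.defeqAttrib.useBackward true
set_option linter.style.haveILetI false

universe u

open CategoryTheory CategoryTheory.Limits AlgebraicGeometry TopologicalSpace Opposite
open scoped TensorProduct

namespace Groth.Agent.PullbackMod

variable {R : Type u} [CommRing R] {ι : Type u} [Fintype ι] (S : ι → Type u)
  [∀ i, CommRing (S i)] [∀ i, Algebra R (S i)]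

theorem faithfullyFlat_pi (a : ι → R) [∀ i, IsLocalization.Away (a i) (S i)]
    (h : Ideal.span (Set.range a) = ⊤) : Module.FaithfullyFlat R (∀ i, S i) := by
  classical
  haveI : ∀ i, Module.Flat R (S i) := fun i => IsLocalization.flat (S i) (Submonoid.powers (a i))
  haveI : Module.Flat R (∀ i, S i) :=
    Module.Flat.of_linearEquiv (M := Π₀ i, S i) DFinsupp.linearEquivFunOnFintype.symm
  refine Module.FaithfullyFlat.of_comap_surjective fun p => ?_
  obtain ⟨i, hi⟩ : ∃ i, a i ∉ p.asIdeal := by
    by_contra! hall
    exact p.isPrime.ne_top (top_le_iff.mp (h ▸ Ideal.span_le.mpr (Set.range_subset_iff.mpr hall)))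
  obtain ⟨q, hq⟩ : p ∈ Set.range (PrimeSpectrum.comap (algebraMap R (S i))) := by
    rw [PrimeSpectrum.localization_away_comap_range (S i) (a i)]
    exact hi
  refine ⟨PrimeSpectrum.comap (Pi.evalRingHom S i) q, ?_⟩
  rw [← hq, ← PrimeSpectrum.comap_comp_apply]
  rfl

theorem projective_pi_tensor (M : Type u) [AddCommGroup M] [Module R M]
    (h : ∀ i, Module.Projective (S i) (S i ⊗[R] M)) :
    Module.Projective (∀ i, S i) ((∀ i, S i) ⊗[R] M) := by
  classical
  let T := ∀ i, S i
  -- each factor is projective over the product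
  letI hmod : ∀ i, Module T (S i ⊗[R] M) := fun i => Module.compHom _ (Pi.evalRingHom S i)
  letI : ∀ i, Algebra T (S i) := fun i => (Pi.evalRingHom S i).toAlgebra
  haveI : ∀ i, IsScalarTower T (S i) (S i ⊗[R] M) := fun i => .of_algebraMap_smul fun _ _ => rfl
  have hSi : ∀ i, Module.Projective T (S i) := fun i =>
    Module.Projective.of_split
      (i := ({ toFun := Pi.single i
               map_add' := Pi.single_add i
               map_smul' := fun t x => by
                 funext j
                 show (Pi.single i (t i * x) : T) j = t j * (Pi.single i x : T) j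
                 obtain rfl | hj := eq_or_ne j i
                 · simp
                 · simp [hj] } : S i →ₗ[T] T))
      (s := Algebra.linearMap T (S i))
      (LinearMap.ext fun x => Pi.single_eq_same (M := S) i x)
  haveI : ∀ i, Module.Projective T (S i ⊗[R] M) := fun i => by
    haveI := hSi i
    haveI := h i
    obtain ⟨s, hs⟩ := Module.projective_def'.mp (h i)
    haveI : Module.Projective T ((S i ⊗[R] M) →₀ S i) :=
      Module.Projective.of_equiv' (finsuppLequivDFinsupp T).symm
    exact Module.Projective.of_split (M := (S i ⊗[R] M) →₀ S i) (i := s.restrictScalars T)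
      (s := (Finsupp.linearCombination (S i) id).restrictScalars T)
      (LinearMap.ext fun x => LinearMap.congr_fun hs x)
  let e : T ⊗[R] M ≃ₗ[T] (Π₀ i, S i ⊗[R] M) :=
    (AddEquiv.toLinearEquiv (TensorProduct.piLeft R M S).toAddEquiv fun t z => by
      induction z with
      | zero => simp
      | add x y hx hy =>
        simp only [smul_add, map_add] at hx hy ⊢
        rw [hx, hy]
      | tmul b m =>
        funext i
        show _ = (t i) • ((TensorProduct.piLeft R M S) (b ⊗ₜ[R] m) i)
        simp [TensorProduct.smul_tmul', TensorProduct.piLeft]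
        rfl).trans
    DFinsupp.linearEquivFunOnFintype.symm
  exact Module.Projective.of_equiv' e.symm

variable {X Y : Scheme.{u}}

theorem projective_basicOpen_pullback (f : X ⟶ Y) (G : Y.Modules) [Coh.IsQCoh G] {U : X.Opens}
    (hU : IsAffineOpen U) (a : Γ(X, U)) {V : Y.Opens} (hV : IsAffineOpen V)
    (ha : X.basicOpen a ≤ f ⁻¹ᵁ V) [Module.Projective Γ(Y, V) Γ(G, V)] :
    letI := (X.presheaf.map (homOfLE (X.basicOpen_le a)).op).hom.toAlgebra
    Module.Projective Γ(X, X.basicOpen a)
      (Γ(X, X.basicOpen a) ⊗[Γ(X, U)] Γ((Scheme.Modules.pullback f).obj G, U)) := by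
  let P := (Scheme.Modules.pullback f).obj G
  haveI : Coh.IsQCoh P := isQCoh_pullback f G
  letI : Algebra Γ(X, U) Γ(X, X.basicOpen a) :=
    (X.presheaf.map (homOfLE (X.basicOpen_le a)).op).hom.toAlgebra
  letI : Algebra Γ(Y, V) Γ(X, X.basicOpen a) := (f.appLE V (X.basicOpen a) ha).hom.toAlgebra
  obtain ⟨φ, -⟩ := exists_pullback_sections_equiv f G hV (hU.basicOpen a) ha
  haveI : Module.Projective Γ(X, X.basicOpen a) Γ(P, X.basicOpen a) := .of_equiv' φ
  letI := Module.compHom Γ(P, X.basicOpen a)
    (X.presheaf.map (homOfLE (X.basicOpen_le a)).op).hom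
  haveI : IsScalarTower Γ(X, U) Γ(X, X.basicOpen a) Γ(P, X.basicOpen a) :=
    .of_algebraMap_smul fun _ _ => rfl
  haveI := hU.isLocalization_basicOpen a
  obtain ⟨r, hr⟩ := QCohLib.exists_isLocalizedModule_res P hU a
  haveI := hr
  exact Module.Projective.of_equiv'
    (IsLocalizedModule.isBaseChange (Submonoid.powers a) Γ(X, X.basicOpen a) r).equiv.symm

end Groth.Agent.PullbackMod
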